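import Cfsg.Agent.Lib.CNNonsolvable.Core
import Cfsg.Agent.Lib.CITConsumer.Classified
import Cfsg.Agent.Lib.CITConsumer.SuzukiFacts
import Cfsg.Agent.Lib.CITConsumer.Involutions
import Cfsg.Agent.Lib.CITConsumer.L34Facts
import Cfsg.Agent.Lib.PSL2.Classes
import Cfsg.Agent.Lib.PSL2.MinimalSimple

/-!
Almost simple CIT groups: only `PSL(2, 9)` has a CIT extension, of index two.
-/

set_option autoImplicit false

namespace Cfsg.Agent.CNNonsolvable

open Subgroup hiding mk
open Cfsg.Agent.CIT (IsCIT ConclSz)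
open Cfsg.Agent.PSL2
open scoped MatrixGroups

variable {H : Type*} [Group H]

/-- An element fusing into itself is centralised by a representative of every coset. -/
theorem mem_of_isConj [Finite H] (hH : IsCIT H) (L : Subgroup H) [L.Normal] (hout : IsPGroup 2 (H ⧸ L))
    (y : L) (hy : Odd (orderOf y)) (hy1 : y ≠ 1) {g : H}
    (hg : IsConj y (MulAut.conjNormal g y)) : g ∈ L := by
  haveI : Fact (Nat.Prime 2) := ⟨Nat.prime_two⟩
  obtain ⟨l, hl⟩ := isConj_iff.1 hg
  have hl' : (l : H) * y * (l : H)⁻¹ = g * y * g⁻¹ := by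
    have := congrArg Subtype.val hl
    simpa [MulAut.conjNormal_apply] using this
  by_contra hgL
  set w := (l : H)⁻¹ * g with hw
  have hwL : w ∉ L := fun h => hgL (by simpa [hw] using mul_mem l.2 h)
  have hwy : Commute w (y : H) := by
    show w * y = y * w
    calc w * (y : H) = (l : H)⁻¹ * (g * y * g⁻¹) * g := by rw [hw]; group
      _ = (y : H) * w := by rw [← hl', hw]; group
  obtain ⟨k, hk⟩ := IsPGroup.iff_orderOf.1 hout (QuotientGroup.mk' L w)
  have h2 : 2 ∣ orderOf w := by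
    rcases k with _ | k
    · exact absurd ((QuotientGroup.eq_one_iff _).1 (orderOf_eq_one_iff.1 (hk.trans (pow_zero 2)))) hwL
    · exact ((dvd_pow_self 2 k.succ_ne_zero).trans (dvd_of_eq hk.symm)).trans (orderOf_map_dvd _ _)
  have h1 := CIT.eq_one_of_commute hH (x := (y : H)) (by rw [Subgroup.orderOf_coe]; exact hy)
    (orderOf_pow_orderOf_div (orderOf_pos w).ne' h2) (hwy.symm.pow_right _)
  exact hy1 (Subtype.ext h1)

/-- An element whose class is invariant forces the socle to be everything. -/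
theorem eq_top_of_class [Finite H] (hH : IsCIT H) (L : Subgroup H) [L.Normal]
    (hout : IsPGroup 2 (H ⧸ L)) (y : L) (hy : orderOf y = 3)
    (hclass : ∀ z : L, orderOf z = 3 → IsConj y z) : L = ⊤ :=
  eq_top_iff.2 fun g _ => mem_of_isConj hH L hout y (hy.symm ▸ by decide)
    (fun e => by rw [e, orderOf_one] at hy; omega)
    (hclass _ (by rw [MulEquiv.orderOf_eq, hy]))

/-- With two classes the index is at most two. -/
theorem index_of_two_classes [Finite H] (hH : IsCIT H) (L : Subgroup H) [L.Normal]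
    (hout : IsPGroup 2 (H ⧸ L)) (y y' : L) (hy : orderOf y = 3)
    (hclass : ∀ z : L, orderOf z = 3 → IsConj y z ∨ IsConj y' z) : L = ⊤ ∨ L.index = 2 := by
  by_cases h : L = ⊤
  · exact Or.inl h
  right
  have hodd : Odd (orderOf y) := hy.symm ▸ by decide
  have hy1 : y ≠ 1 := fun e => by rw [e, orderOf_one] at hy; omega
  have hout' : ∀ g : H, g ∉ L → IsConj y' (MulAut.conjNormal g y) := fun g hg =>
    (hclass _ (by rw [MulEquiv.orderOf_eq, hy])).resolve_left
      fun hc => hg (mem_of_isConj hH L hout y hodd hy1 hc)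
  obtain ⟨a, ha⟩ : ∃ a : H, a ∉ L := by
    by_contra hcon
    push Not at hcon
    exact h (eq_top_iff.2 fun g _ => hcon g)
  refine Subgroup.index_eq_two_iff.2 ⟨a⁻¹, fun b => ?_⟩
  by_cases hb : b ∈ L
  · refine Or.inr ⟨hb, fun h' => ha ?_⟩
    have := mul_mem (inv_mem hb) h'
    rw [inv_mul_cancel_left] at this
    simpa using inv_mem this
  · refine Or.inl ⟨?_, hb⟩
    -- two outer elements differ by an element of `L`
    have h1 : IsConj (MulAut.conjNormal a y) (MulAut.conjNormal b y) := (hout' a ha).symm.trans (hout' b hb)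
    have h2 := (MulEquiv.toMonoidHom (MulAut.conjNormal a⁻¹ : MulAut L)).map_isConj h1
    have e1 : (MulAut.conjNormal a⁻¹ : MulAut L) (MulAut.conjNormal a y) = y := by
      rw [← MulAut.mul_apply, ← map_mul, inv_mul_cancel, map_one, MulAut.one_apply]
    have e2 : (MulAut.conjNormal a⁻¹ : MulAut L) (MulAut.conjNormal b y) = MulAut.conjNormal (a⁻¹ * b) y := by
      rw [map_mul, MulAut.mul_apply]
    rw [MulEquiv.coe_toMonoidHom, e1, e2] at h2
    exact (inferInstance : L.Normal).mem_comm (mem_of_isConj hH L hout y hodd hy1 h2)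

variable {F : Type*} [Field F] [Fintype F]

omit [Fintype F] in
theorem tr_sq_eq_one {g : SL(2, F)} (h : mk (g * g * g) = 1) (hg : g ∉ Subgroup.center SL(2, F)) :
    tr g ^ 2 = 1 := by
  have hc : g * g * g ∈ Subgroup.center SL(2, F) := (QuotientGroup.eq_one_iff _).1 h
  rw [mem_center_iff_entries] at hc
  simp only [mul00, mul01, mul10, mul11] at hc
  obtain ⟨h01, h10, hd⟩ := hc
  have hdet := det_eq g
  by_contra hne
  have hne' : tr g ^ 2 - 1 ≠ 0 := sub_ne_zero.2 hne
  apply hg
  rw [mem_center_iff_entries]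
  rw [tr_def] at hne'
  refine ⟨(mul_eq_zero.1 (?_ : ((g 0 0 + g 1 1) ^ 2 - 1) * g 0 1 = 0)).resolve_left hne',
    (mul_eq_zero.1 (?_ : ((g 0 0 + g 1 1) ^ 2 - 1) * g 1 0 = 0)).resolve_left hne',
    sub_eq_zero.1 ((mul_eq_zero.1 (?_ : ((g 0 0 + g 1 1) ^ 2 - 1) * (g 0 0 - g 1 1) = 0)).resolve_left hne')⟩
  · linear_combination h01 + g 0 1 * hdet
  · linear_combination h10 + g 1 0 * hdet
  · linear_combination hd + (g 0 0 - g 1 1) * hdet

omit [Fintype F] in
theorem three_cases {x : PSL(2, F)} (hx : orderOf x = 3) :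
    (∃ g, mk g = x ∧ tr g ^ 2 ≠ 4 ∧ tr g ^ 2 = 1) ∨
      ∃ k s, s ≠ 0 ∧ x = mk (k * uu s * k⁻¹) ∧ (3 : F) = 0 := by
  have hx1 : x ≠ 1 := fun e => by rw [e, orderOf_one] at hx; omega
  have hx3 : x * x * x = 1 := by rw [← pow_three', ← hx, pow_orderOf_eq_one]
  rcases psl_cases hx1 with ⟨g, rfl, h4⟩ | ⟨k, s, hs, rfl⟩
  · exact Or.inl ⟨g, rfl, h4, tr_sq_eq_one (by rwa [map_mul, map_mul]) (mk_ne_one_iff.1 hx1)⟩
  · refine Or.inr ⟨k, s, hs, rfl, ?_⟩
    rw [orderOf_mk_conj] at hx
    have h : mk (uu s ^ 3) = 1 := by rw [map_pow, ← hx, pow_orderOf_eq_one]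
    rw [uu_pow] at h
    by_contra h3
    exact mk_uu_ne_one (mul_ne_zero (by exact_mod_cast h3) hs) h

/-- Outside characteristic three the elements of order three form one class. -/
theorem psl_three_isConj (h3 : (3 : F) ≠ 0) {x y : PSL(2, F)} (hx : orderOf x = 3) (hy : orderOf y = 3) :
    IsConj x y := by
  have key : ∀ z : PSL(2, F), orderOf z = 3 → ∃ g, mk g = z ∧ tr g = 1 := by
    intro z hz
    rcases three_cases hz with ⟨g, rfl, -, h1⟩ | ⟨-, -, -, -, h⟩
    · rcases sq_eq_one_iff.1 h1 with h | h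
      · exact ⟨g, rfl, h⟩
      · exact ⟨-g, mk_neg g, by rw [tr_neg, h, neg_neg]⟩
    · exact absurd h h3
  obtain ⟨g, rfl, hg⟩ := key x hx
  obtain ⟨k, rfl, hk⟩ := key y hy
  refine mk.map_isConj (isConj_of_tr (hg.trans hk.symm) fun e => h3 ?_)
  rw [hg] at e
  linear_combination -e

/-- In characteristic three the elements of order three form at most two classes. -/
theorem psl_three_two_classes (h3 : (3 : F) = 0) :
    ∃ ν : F, ν ≠ 0 ∧ ∀ x : PSL(2, F), orderOf x = 3 → IsConj (mk (uu 1)) x ∨ IsConj (mk (uu ν)) x := by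
  classical
  have h2 : ringChar F ≠ 2 := by
    intro h
    haveI := ringChar.of_eq h
    have h20 : (2 : F) = 0 := CharTwo.two_eq_zero
    exact one_ne_zero (α := F) (by linear_combination h3 - h20)
  obtain ⟨ν, hν⟩ := FiniteField.exists_nonsquare h2
  have hν0 : ν ≠ 0 := fun e => hν (e ▸ IsSquare.zero)
  refine ⟨ν, hν0, fun x hx => ?_⟩
  rcases three_cases hx with ⟨g, -, h4, h1⟩ | ⟨k, s, hs, rfl, -⟩
  · exact absurd (by linear_combination h1 - h3) h4
  · have hc : IsConj (mk (uu s)) (mk (k * uu s * k⁻¹)) := mk.map_isConj (isConj_iff.2 ⟨k, rfl⟩)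
    by_cases hsq : IsSquare s
    · obtain ⟨a, ha⟩ := hsq
      have ha0 : a ≠ 0 := fun e => hs (by rw [ha, e, zero_mul])
      have := isConj_uu_sq (Units.mk0 a ha0) (1 : F)
      rw [Units.val_mk0, sq, mul_one, ← ha] at this
      exact Or.inl ((mk.map_isConj this).trans hc)
    · obtain ⟨a, ha⟩ : IsSquare (s / ν) := by
        rw [← quadraticChar_one_iff_isSquare (div_ne_zero hs hν0), div_eq_mul_inv, map_mul,
          quadraticChar_neg_one_iff_not_isSquare.2 hsq,
          (quadraticChar_neg_one_iff_not_isSquare.2 (fun h => hν (by simpa using h.inv)))]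
        norm_num
      have ha0 : a ≠ 0 := fun e => div_ne_zero hs hν0 (by rw [ha, e, zero_mul])
      have := isConj_uu_sq (Units.mk0 a ha0) ν
      rw [Units.val_mk0, sq, ← ha, div_mul_cancel₀ _ hν0] at this
      exact Or.inr ((mk.map_isConj this).trans hc)

/-- A simple group `PSL(2, q)` has `q ≥ 4`. -/
theorem four_le_card {L : Type*} [Group L] [IsSimpleGroup L] (hne : ∃ a b : L, a * b ≠ b * a)
    (e : L ≃* PSL(2, F)) : 4 ≤ Fintype.card F := by
  by_contra h
  haveI := isSolvable_psl_small (F := F) (by omega)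
  haveI : Group.IsSolvable L :=
    Group.isSolvable_of_isSolvable_injective (f := e.toMonoidHom) e.injective
  obtain ⟨a, b, hab⟩ := hne
  exact hab (IsSimpleGroup.comm_iff_isSolvable.2 inferInstance a b)

theorem psl_field_cases (h4 : 4 ≤ Fintype.card F)
    (hq : Fintype.card F = 9 ∨ (∃ n : ℕ, Fintype.card F = 2 ^ n) ∨
      ((Fintype.card F).Prime ∧ ∃ k : ℕ, Fintype.card F = 2 ^ k + 1 ∨ Fintype.card F + 1 = 2 ^ k)) :
    Fintype.card F = 9 ∨ (3 : F) ≠ 0 := by
  rcases hq with h | ⟨n, hn⟩ | ⟨hp, -⟩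
  · exact Or.inl h
  · refine Or.inr fun h3 => ?_
    have h2 : (2 : F) = 0 := even_card_iff.1 (hn ▸ Nat.even_pow.2 ⟨even_two, fun e => by subst e; simp at hn; omega⟩)
    exact one_ne_zero (α := F) (by linear_combination h3 - h2)
  · refine Or.inr fun h3 => ?_
    haveI := Fact.mk hp
    haveI : CharP F (Fintype.card F) := charP_of_card_eq_prime rfl
    have h3' : ((3 : ℕ) : F) = 0 := by exact_mod_cast h3
    rw [CharP.cast_eq_zero_iff F (Fintype.card F)] at h3'
    have := Nat.le_of_dvd (by norm_num) h3'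
    omega

/-- The involutions of a simple CIT group are conjugate. -/
theorem involutions_isConj {L : Type*} [Group L] (h : ConclSz L) {a b : L} (ha : orderOf a = 2)
    (hb : orderOf b = 2) : IsConj a b := by
  rcases h with ⟨K, iK, iKt, -, ⟨e⟩⟩ | ⟨K, iK, iKt, hK, ⟨e⟩⟩ | ⟨K, iK, iKt, m, hm, hK, ⟨e⟩⟩
  · have := e.symm.toMonoidHom.map_isConj (psl_involutions_isConj (x := e a) (y := e b)
      (by rw [MulEquiv.orderOf_eq, ha]) (by rw [MulEquiv.orderOf_eq, hb]))
    simpa using this
  · haveI : Fact (Nat.Prime 2) := ⟨Nat.prime_two⟩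
    haveI : CharP K 2 := charP_of_card_eq_prime_pow (f := 2) (by rw [hK]; rfl)
    have := e.symm.toMonoidHom.map_isConj (CITConsumer.psl_three_involutions_isConj (x := e a)
      (y := e b) (by rw [MulEquiv.orderOf_eq, ha]) (by rw [MulEquiv.orderOf_eq, hb]))
    simpa using this
  · exact CITConsumer.sz_involutions_isConj hm hK e ha hb

/-- A CIT extension of `PSL(3, 4)` is trivial. -/
theorem eq_top_of_psl34 [Finite H] (hH : IsCIT H) (L : Subgroup H) [L.Normal]
    (hout : IsPGroup 2 (H ⧸ L)) (hF : Fintype.card F = 4)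
    (e : L ≃* Matrix.ProjectiveSpecialLinearGroup (Fin 3) F) : L = ⊤ := by
  haveI : Fact (Nat.Prime 7) := ⟨by norm_num⟩
  haveI : Fact (Nat.Prime 2) := ⟨Nat.prime_two⟩
  have hcard : Nat.card L = 20160 :=
    (Nat.card_congr e.toEquiv).trans (CITConsumer.card_psl_three_four hF)
  obtain ⟨g₀, h₀, hh₀, hconj⟩ := CITConsumer.psl_three_four_seven hF
  set g : L := e.symm g₀
  set c : L := e.symm h₀
  have hc : orderOf c = 7 := by rw [MulEquiv.orderOf_eq, hh₀]
  have hgc : g * c * g⁻¹ = c ^ 2 := e.injective (by simp [g, c, hconj])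
  let P : Sylow 7 L := Sylow.ofCard (zpowers c) (by
    rw [Nat.card_zpowers, hc, hcard, show (20160 : ℕ) = 7 ^ 1 * 2880 by norm_num,
      Nat.factorization_mul (by norm_num) (by norm_num), Finsupp.add_apply,
      Nat.Prime.factorization_pow (by norm_num), Finsupp.single_eq_same,
      Nat.factorization_eq_zero_of_not_dvd (n := 2880) (by norm_num), add_zero, pow_one])
  have hfr := Sylow.normalizer_sup_eq_top P
  rw [Sylow.coe_ofCard, MonoidHom.map_zpowers] at hfr
  set Y := zpowers (L.subtype c) with hY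
  set N := normalizer (Y : Set H) with hN
  by_contra htop
  -- the normaliser of `Y` has even order
  have h2N : 2 ∣ Nat.card N := by
    obtain ⟨k, hk⟩ := IsPGroup.iff_card.1 hout
    have h2 : 2 ∣ Nat.card (H ⧸ L) := by
      rcases k with _ | k
      · exact absurd (Subgroup.index_eq_one.1 (hk.trans (pow_zero 2))) htop
      · exact hk ▸ dvd_pow_self 2 k.succ_ne_zero
    refine h2.trans (Subgroup.card_dvd_of_surjective ((QuotientGroup.mk' L).comp N.subtype) fun q => ?_)
    obtain ⟨z, rfl⟩ := QuotientGroup.mk'_surjective L q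
    obtain ⟨w, hw, l, hl, rfl⟩ := Subgroup.mem_sup_of_normal_right.1 (hfr ▸ Subgroup.mem_top z : z ∈ N ⊔ L)
    refine ⟨⟨w, hw⟩, ?_⟩
    show QuotientGroup.mk' L w = QuotientGroup.mk' L (w * l)
    rw [map_mul, show QuotientGroup.mk' L l = 1 from (QuotientGroup.eq_one_iff _).2 hl, mul_one]
  obtain ⟨⟨t, htN⟩, ht⟩ := exists_prime_orderOf_dvd_card' 2 h2N
  rw [Subgroup.orderOf_mk] at ht
  have htt : t * t = 1 := by rw [← sq, ← ht, pow_orderOf_eq_one]
  have hti : t⁻¹ = t := inv_eq_of_mul_eq_one_right htt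
  have hcY : (c : H) ∈ Y := mem_zpowers _
  have hc7 : orderOf (c : H) = 7 := by rw [Subgroup.orderOf_coe, hc]
  obtain ⟨j, hj⟩ := (isOfFinOrder_of_finite _).mem_powers_iff_mem_zpowers.2
    ((mem_normalizer_iff.1 htN (c : H)).1 hcY)
  simp only [hti] at hj
  replace hj : (c : H) ^ j = t * (c : H) * t := hj
  have hgH : (g : H) * c * (g : H)⁻¹ = (c : H) ^ 2 := by simpa using congrArg Subtype.val hgc
  -- `(g ^ 3)` centralises `c`
  set h := (g : H) with hhdef
  set d := h⁻¹ * (t * h * t) with hd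
  have hjj : (c : H) ^ (j * j) = c := by
    calc (c : H) ^ (j * j) = ((c : H) ^ j) ^ j := pow_mul _ _ _
      _ = (t * c * t⁻¹) ^ j := by rw [hti]; exact congrArg (· ^ j) hj
      _ = t * ((c : H) ^ j) * t⁻¹ := conj_pow
      _ = t * (t * c * t) * t⁻¹ := congrArg (fun z => t * z * t⁻¹) hj
      _ = (t * t) * c * (t * t⁻¹) := by group
      _ = c := by rw [htt]; group
  have hdc : Commute d (c : H) := by
    have e0 : ∀ i : ℕ, t * (c : H) ^ i * t = (c : H) ^ (j * i) := fun i => by
      rw [pow_mul]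
      conv_rhs => rw [show (c : H) ^ j = t * c * t⁻¹ by rw [hti]; exact hj]
      rw [conj_pow, hti]
    have e1 : ∀ i : ℕ, h * (c : H) ^ i * h⁻¹ = (c : H) ^ (2 * i) := fun i => by
      rw [← conj_pow, hgH, ← pow_mul]
    refine mul_inv_eq_iff_eq_mul.1 ?_
    calc d * (c : H) * d⁻¹ = h⁻¹ * (t * (h * (t * (c : H) * t) * h⁻¹) * t) * h := by
          simp only [hd, mul_inv_rev, hti]; group
      _ = h⁻¹ * (t * (c : H) ^ (2 * j) * t) * h := by rw [← hj, e1]
      _ = h⁻¹ * (c : H) ^ (j * j * 2) * h := by rw [e0]; congr 2; ring_nf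
      _ = h⁻¹ * (c : H) ^ 2 * h := by rw [pow_mul, hjj]
      _ = c := by rw [← hgH]; group
  have hdodd : Odd (orderOf d) := by
    rw [← Nat.not_even_iff_odd]
    intro he
    have h1 := CIT.eq_one_of_commute hH (x := (c : H)) (hc7.symm ▸ by decide)
      (orderOf_pow_orderOf_div (orderOf_pos d).ne' he.two_dvd) (hdc.symm.pow_right _)
    rw [h1, orderOf_one] at hc7
    omega
  have hdi : t * d * t = d⁻¹ := by
    simp only [hd, mul_inv_rev, inv_inv, hti]
    calc t * (h⁻¹ * (t * h * t)) * t = t * h⁻¹ * t * h * (t * t) := by group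
      _ = _ := by rw [htt, mul_one]; group
  obtain ⟨u, hu, huu, hut⟩ := exists_inverted_sqrt htt hdodd hdi
  set v := h * u
  have hvt : t * v * t = v := by
    calc t * (h * u) * t = (t * h * t) * (t * u * t) := by
          calc _ = t * h * (t * t) * u * t := by rw [htt]; group
            _ = _ := by group
      _ = h * d * u⁻¹ := by rw [hut, hd]; group
      _ = h * u := by rw [← huu]; group
  have hvc : v * (c : H) * v⁻¹ = (c : H) ^ 2 := by
    have huc : Commute u (c : H) := by
      obtain ⟨i, rfl⟩ := hu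
      exact hdc.zpow_left i
    calc v * (c : H) * v⁻¹ = h * (u * c * u⁻¹) * h⁻¹ := by simp only [v]; group
      _ = _ := by rw [huc.eq, mul_inv_cancel_right, hgH]
  -- the odd part of `v` still moves `c`
  obtain ⟨a, n, hn, hvn⟩ := Nat.exists_eq_pow_mul_and_not_dvd (orderOf_pos v).ne' 2 (by omega)
  set z := v ^ 2 ^ a
  have hzo : Odd (orderOf z) := by
    rw [orderOf_pow' _ (by positivity), hvn, Nat.gcd_mul_right_left,
      Nat.mul_div_cancel_left _ (by positivity)]
    exact Nat.not_even_iff_odd.1 fun he => hn he.two_dvd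
  have hz1 := CIT.eq_one_of_commute hH (x := z) hzo ht ((show Commute v t by
    calc v * t = (t * v * t) * t := by rw [hvt]
      _ = t * v * (t * t) := by group
      _ = t * v := by rw [htt, mul_one]).pow_left _)
  -- but a power of two is never `1` modulo seven unless its exponent is a multiple of three
  have hpow : ∀ i : ℕ, v ^ i * (c : H) * (v ^ i)⁻¹ = (c : H) ^ 2 ^ i := fun i => by
    induction i with
    | zero => simp
    | succ i ih =>
      calc v ^ (i + 1) * (c : H) * (v ^ (i + 1))⁻¹ = v * (v ^ i * c * (v ^ i)⁻¹) * v⁻¹ := by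
            rw [pow_succ']; group
        _ = (c : H) ^ 2 ^ (i + 1) := by rw [ih, ← conj_pow, hvc, ← pow_mul, pow_succ']
  have h3 := hpow (2 ^ a)
  rw [show v ^ 2 ^ a = 1 from hz1, one_mul, inv_one, mul_one] at h3
  have hmod : 2 ^ 2 ^ a % 7 = 1 := by
    have h4 : (c : H) ^ 1 = (c : H) ^ 2 ^ 2 ^ a := by rw [pow_one]; exact h3
    rw [pow_eq_pow_iff_modEq, hc7] at h4
    exact h4.symm
  have hcases : 2 ^ a % 3 = 1 ∨ 2 ^ a % 3 = 2 := by
    have h0 : 2 ^ a % 3 ≠ 0 := fun h0 => by
      have := Nat.Prime.dvd_of_dvd_pow Nat.prime_three (Nat.dvd_of_mod_eq_zero h0)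
      norm_num at this
    omega
  rw [← Nat.div_add_mod (2 ^ a) 3, pow_add, pow_mul, Nat.mul_mod, Nat.pow_mod] at hmod
  rcases hcases with h | h <;> rw [h] at hmod <;> norm_num at hmod

/-- **CIT extensions of simple CIT groups.** -/
theorem eq_top_or_nine [Finite H] (hH : IsCIT H) (L : Subgroup H) [L.Normal] [IsSimpleGroup L]
    (hne : ∃ a b : L, a * b ≠ b * a) (hout : IsPGroup 2 (H ⧸ L)) (hL : ConclSz L) :
    L = ⊤ ∨ L.index = 2 ∧ ∃ (K : Type) (_ : Field K) (_ : Fintype K), Fintype.card K = 9 ∧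
      Nonempty (L ≃* PSL(2, K)) := by
  rcases hL with ⟨K, iK, iKt, hq, ⟨e⟩⟩ | ⟨K, iK, iKt, hK, ⟨e⟩⟩ | ⟨K, iK, iKt, m, hm, hK, ⟨e⟩⟩
  · haveI : Fact (Nat.Prime 3) := ⟨Nat.prime_three⟩
    obtain ⟨y, hy⟩ := exists_prime_orderOf_dvd_card' (G := L) 3
      (Nat.card_congr e.toEquiv ▸ CITConsumer.three_dvd_card_psl)
    have htrans : ∀ {a b : L}, IsConj (e a) (e b) → IsConj a b := fun h => by
      simpa using e.symm.toMonoidHom.map_isConj h
    rcases psl_field_cases (four_le_card hne e) hq with h9 | h3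
    · haveI : CharP K 3 := charP_of_card_eq_prime_pow (f := 2) (by rw [h9]; rfl)
      have h30 : (3 : K) = 0 := by exact_mod_cast CharP.cast_eq_zero K 3
      obtain ⟨ν, hν, hcl⟩ := psl_three_two_classes (F := K) h30
      rcases index_of_two_classes hH L hout (e.symm (mk (uu 1))) (e.symm (mk (uu ν)))
        (by rw [MulEquiv.orderOf_eq, orderOf_mk_uu 3 one_ne_zero]) (fun z hz => by
          rcases hcl (e z) (by rw [MulEquiv.orderOf_eq, hz]) with h | h
          · exact Or.inl (htrans (by simpa using h))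
          · exact Or.inr (htrans (by simpa using h))) with h | h
      · exact Or.inl h
      · exact Or.inr ⟨h, K, iK, iKt, h9, ⟨e⟩⟩
    · exact Or.inl (eq_top_of_class hH L hout y hy fun z hz => htrans
        (psl_three_isConj h3 (by rw [MulEquiv.orderOf_eq, hy]) (by rw [MulEquiv.orderOf_eq, hz])))
  · exact Or.inl (eq_top_of_psl34 hH L hout hK e)
  · refine Or.inl (CITConsumer.eq_top_of_suzuki L ?_ hout hm hK e)
    haveI : Fact (Nat.Prime 2) := ⟨Nat.prime_two⟩
    obtain ⟨t, ht⟩ := exists_prime_orderOf_dvd_card' 2 (CIT.two_dvd_card hne)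
    have hC2 : IsPGroup 2 (centralizer (L : Set H)) :=
      (hH (t : H) (by rw [Subgroup.orderOf_coe, ht])).to_le fun x hx =>
        mem_centralizer_singleton_iff.2 (hx t t.2).symm
    have hdis : centralizer (L : Set H) ⊓ L = ⊥ := by
      rw [eq_bot_iff]
      intro x hx
      rw [Subgroup.mem_bot]
      rcases (inferInstance : (Subgroup.center L).Normal).eq_bot_or_eq_top with h | h
      · have hxc : (⟨x, hx.2⟩ : L) ∈ Subgroup.center L :=
          Subgroup.mem_center_iff.2 fun z => Subtype.ext (hx.1 z z.2)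
        rw [h, Subgroup.mem_bot] at hxc
        exact congrArg Subtype.val hxc
      · obtain ⟨a, b, hab⟩ := hne
        exact absurd ((Subgroup.mem_center_iff.1 (h ▸ Subgroup.mem_top b)) a) hab
    haveI : Fact (Nat.Prime 5) := ⟨by norm_num⟩
    obtain ⟨y, hy, hy2⟩ : ∃ y : L, Odd (orderOf y) ∧ y ≠ 1 := by
      by_contra hcon
      push Not at hcon
      have hLp : IsPGroup 2 L := IsPGroup.of_card (n := _) (Nat.eq_prime_pow_of_unique_prime_dvd
        Nat.card_pos.ne' fun {r} hr hd => by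
          by_contra h2
          haveI : Fact r.Prime := ⟨hr⟩
          obtain ⟨z, hz⟩ := exists_prime_orderOf_dvd_card' r hd
          rw [hcon z (hz.symm ▸ hr.odd_of_ne_two h2), orderOf_one] at hz
          exact hr.ne_one hz.symm)
      haveI := hLp.isNilpotent
      obtain ⟨a, b, hab⟩ := hne
      exact hab (IsSimpleGroup.comm_iff_isSolvable.2 inferInstance a b)
    rw [eq_bot_iff]
    intro x hx
    rw [Subgroup.mem_bot]
    by_contra hx1
    obtain ⟨k, hk⟩ := IsPGroup.iff_orderOf.1 hC2 ⟨x, hx⟩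
    rw [Subgroup.orderOf_mk] at hk
    have hd : 2 ∣ orderOf x := by
      rcases k with _ | k
      · exact absurd (orderOf_eq_one_iff.1 (hk.trans (pow_zero 2))) hx1
      · exact hk ▸ dvd_pow_self 2 k.succ_ne_zero
    have hc : Commute (y : H) x := hx y y.2
    exact hy2 (Subtype.ext (CIT.eq_one_of_commute hH (x := (y : H))
      (by rw [Subgroup.orderOf_coe]; exact hy) (orderOf_pow_orderOf_div (orderOf_pos x).ne' hd)
      (hc.pow_right _)))

end Cfsg.Agent.CNNonsolvable
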