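import Cfsg.Agent.Lib.CIT.CNReduce
import Cfsg.Agent.Lib.CITConsumer.Reduce
import Cfsg.Agent.Lib.PCore.Basic

/-!
Non-solvable CN-groups: no normal subgroup of odd order, and with a nontrivial 2-core the group is CIT.
-/

set_option autoImplicit false

namespace Cfsg.Agent.CNNonsolvable

open Subgroup
open Cfsg (IsCNGroup)
open Cfsg.Agent.CIT (IsCIT)

variable {G : Type*} [Group G]

theorem isPGroup_two_orderOf [Finite G] {H : Subgroup G} (hH : IsPGroup 2 H) {x : G} (hx : x ∈ H) :
    ∃ k, x ^ 2 ^ k = 1 := by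
  obtain ⟨k, hk⟩ := hH ⟨x, hx⟩
  exact ⟨k, by simpa using congrArg Subtype.val hk⟩

theorem eq_one_of_odd_of_two_pow {x : G} (hx : Odd (orderOf x)) {k : ℕ} (hk : x ^ 2 ^ k = 1) :
    x = 1 :=
  orderOf_eq_one_iff.1 (((Nat.coprime_two_right.2 hx).pow_right k).eq_one_of_dvd
    (orderOf_dvd_of_pow_eq_one hk))

/-- An element inverted by an involution is a square of an inverted element. -/
theorem exists_inverted_sqrt {t w : G} (htt : t * t = 1) (hw : Odd (orderOf w))
    (hi : t * w * t = w⁻¹) : ∃ u ∈ zpowers w, u * u = w ∧ t * u * t = u⁻¹ := by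
  obtain ⟨k, hk⟩ := hw
  refine ⟨w ^ (k + 1), pow_mem (mem_zpowers w) _, ?_, ?_⟩
  · rw [← pow_add, show k + 1 + (k + 1) = (2 * k + 1) + 1 by omega, pow_succ, ← hk,
      pow_orderOf_eq_one, one_mul]
  · have h : ∀ n : ℕ, t * w ^ n * t = (w ^ n)⁻¹ := fun n => by
      induction n with
      | zero => simpa using htt
      | succ n ih =>
        calc t * w ^ (n + 1) * t = t * w ^ n * (t * t) * w * t := by rw [htt, pow_succ]; group
          _ = (t * w ^ n * t) * (t * w * t) := by group
          _ = (w ^ n)⁻¹ * w⁻¹ := by rw [ih, hi]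
          _ = (w ^ (n + 1))⁻¹ := by rw [pow_succ']; group
    exact h _

/-- A non-solvable CN-group has no nontrivial abelian normal subgroup of odd order. -/
theorem abelian_odd_normal_eq_bot [Finite G] (hCN : IsCNGroup G) (hns : ¬ Group.IsSolvable G)
    (V : Subgroup G) [V.Normal] [IsMulCommutative V] (hV : Odd (Nat.card V)) : V = ⊥ := by
  haveI : Fact (Nat.Prime 2) := ⟨Nat.prime_two⟩
  by_contra hne
  obtain ⟨v, hv, hv1⟩ := V.bot_or_exists_ne_one.resolve_left hne
  set C := centralizer (V : Set G) with hC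
  haveI : C.Normal := by rw [hC]; infer_instance
  have hVodd : ∀ y ∈ V, Odd (orderOf y) := fun y hy =>
    hV.of_dvd_nat (V.orderOf_dvd_natCard hy)
  have hCn : Group.IsNilpotent C := OddOrder.CN.isNilpotent_of_le
    (fun c hc => mem_centralizer_singleton_iff.2 (mem_centralizer_iff.1 hc v hv).symm) (hCN v hv1)
  have hCs : Group.IsSolvable C := by haveI := hCn; infer_instance
  have hfin : ∀ N : Subgroup G, N.Normal → Group.IsSolvable N →
      Group.IsSolvable (G ⧸ C) → False := fun _ _ _ hq =>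
    hns ((Group.isSolvable_iff_subgroup_quotient C).2 ⟨hCs, hq⟩)
  by_cases h2 : 2 ∣ Nat.card C
  · -- the 2-core of `C` meets the centre of a Sylow subgroup
    obtain ⟨P, hPn, hP2⟩ : ∃ P : Subgroup G, P.Normal ∧ IsPGroup 2 P ∧ P ≠ ⊥ ∧ P ≤ C := by
      haveI := hCn
      obtain ⟨Q⟩ : Nonempty (Sylow 2 C) := Sylow.nonempty
      haveI hQn : (Q : Subgroup C).Normal :=
        Q.normal_of_normalizerCondition Group.normalizerCondition_of_isNilpotent
      haveI := Q.characteristic_of_normal hQn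
      refine ⟨(Q : Subgroup C).map C.subtype, inferInstance, Q.2.map _, ?_, map_subtype_le _⟩
      rw [Ne, map_eq_bot_iff_of_injective _ C.subtype_injective]
      exact Q.ne_bot_of_dvd_card h2
    obtain ⟨hPp, hP1, hPC⟩ := hP2
    haveI := hPn
    obtain ⟨S, hS⟩ := hPp.exists_le_sylow
    obtain ⟨r, hrP, hr1, hrc⟩ : ∃ r ∈ P, r ≠ 1 ∧ ∀ s ∈ (S : Subgroup G), s * r = r * s := by
      obtain ⟨⟨z, hzP, hzc⟩, hz1⟩ := Subgroup.ne_bot_iff_exists_ne_one.1
        (Cfsg.Agent.PGroup.inf_center_ne_bot S.2 (P.subgroupOf S) fun e => hP1 (by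
          rw [← le_bot_iff]
          intro y hy
          have hy' : (⟨y, hS hy⟩ : S) ∈ P.subgroupOf S := hy
          rw [e, Subgroup.mem_bot] at hy'
          exact congrArg Subtype.val hy'))
      exact ⟨z, hzP, fun e => hz1 (Subtype.ext (Subtype.ext e)), fun s hs =>
        congrArg Subtype.val (Subgroup.mem_center_iff.1 hzc ⟨s, hs⟩)⟩
    have hSC : (S : Subgroup G) ≤ C := fun s hs => by
      rw [hC, mem_centralizer_iff]
      intro y hy
      exact OddOrder.CN.commute_of_centralizer hCN hr1 (hrc s hs)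
        (mem_centralizer_iff.1 (hPC hrP) y hy) (isPGroup_two_orderOf S.2 hs)
        (Nat.coprime_two_right.2 (hVodd y hy))
    refine hfin C inferInstance hCs (S0205.result ?_)
    refine Nat.not_even_iff_odd.1 fun he => S.not_dvd_index ?_
    exact (even_iff_two_dvd.1 he).trans (Subgroup.index_dvd_of_le hSC)
  · -- an involution inverts `V`
    have hCodd : Odd (Nat.card C) := Nat.not_even_iff_odd.1 fun he => h2 he.two_dvd
    have h2G : 2 ∣ Nat.card G := by
      by_contra h
      exact hns (S0205.result (Nat.not_even_iff_odd.1 fun he => h he.two_dvd))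
    obtain ⟨t, ht⟩ := exists_prime_orderOf_dvd_card' 2 h2G
    have ht1 : t ≠ 1 := fun e => by rw [e, orderOf_one] at ht; omega
    have htt : t * t = 1 := by rw [← sq, ← ht, pow_orderOf_eq_one]
    have htC : t ∉ C := fun h => h2 (ht ▸ C.orderOf_dvd_natCard h)
    -- involutions invert `V`
    have hinv : ∀ s : G, orderOf s = 2 → s ∉ C → ∀ y ∈ V, s * y * s = y⁻¹ := by
      intro s hs hsC
      have hss : s * s = 1 := by rw [← sq, ← hs, pow_orderOf_eq_one]
      refine TICentralisers.inverts_of_fpf hss V (fun y hy => ?_) fun y hy hc => ?_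
      · have := Subgroup.Normal.conj_mem inferInstance y hy s
        rwa [inv_eq_of_mul_eq_one_right hss] at this
      · by_contra hy1
        refine hsC (mem_centralizer_iff.2 fun y' hy' => ?_)
        exact OddOrder.CN.commute_of_centralizer hCN hy1 hc.eq.symm
          (congrArg Subtype.val (mul_comm' (⟨y', hy'⟩ : V) ⟨y, hy⟩))
          ⟨1, by rw [pow_one, sq, hss]⟩ (Nat.coprime_two_right.2 (hVodd y' hy'))
    -- so `G = C C(t)`
    refine hfin C inferInstance hCs ?_
    haveI : Group.IsNilpotent (centralizer ({t} : Set G)) := hCN t ht1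
    refine Group.isSolvable_of_surjective
      (f := (QuotientGroup.mk' C).comp (centralizer ({t} : Set G)).subtype) fun q => ?_
    obtain ⟨g, rfl⟩ := QuotientGroup.mk'_surjective C q
    set s := g * t * g⁻¹ with hs
    have hso : orderOf s = 2 := by
      rw [show s = MulAut.conj g t from rfl, MulEquiv.orderOf_eq, ht]
    have hsC : s ∉ C := fun h => htC (by
      have := Subgroup.Normal.conj_mem (inferInstance : C.Normal) s h g⁻¹
      simpa [hs, mul_assoc] using this)
    have hw : s * t ∈ C := mem_centralizer_iff.2 fun y hy => by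
      have e1 := hinv t ht htC y hy
      have e2 := hinv s hso hsC y⁻¹ (V.inv_mem hy)
      rw [inv_inv] at e2
      have hss : s * s = 1 := by rw [← sq, ← hso, pow_orderOf_eq_one]
      calc y * (s * t) = (s * y⁻¹ * s) * (s * t) := by rw [e2]
        _ = s * y⁻¹ * (s * s) * t := by group
        _ = s * (t * y * t) * t := by rw [hss, mul_one, e1]
        _ = s * t * y * (t * t) := by group
        _ = s * t * y := by rw [htt, mul_one]
    have hti : t * (s * t) * t = (s * t)⁻¹ := by
      rw [mul_inv_rev, inv_eq_of_mul_eq_one_right htt,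
        inv_eq_of_mul_eq_one_right (by rw [← sq, ← hso, pow_orderOf_eq_one] : s * s = 1)]
      rw [← mul_assoc, mul_assoc (t * s), htt, mul_one]
    obtain ⟨u, hu, huu, hut⟩ := exists_inverted_sqrt htt
      (hCodd.of_dvd_nat (C.orderOf_dvd_natCard hw)) hti
    have huC : u ∈ C := zpowers_le.2 hw hu
    have hconj : u * t * u⁻¹ = s := by
      calc u * t * u⁻¹ = u * t * (t * u * t) := by rw [hut]
        _ = u * (t * t) * u * t := by group
        _ = s * t * t := by rw [htt, mul_one, huu]
        _ = s := by rw [mul_assoc, htt, mul_one]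
    refine ⟨⟨u⁻¹ * g, mem_centralizer_singleton_iff.2 ?_⟩, ?_⟩
    · calc u⁻¹ * g * t = u⁻¹ * s * g := by rw [hs]; group
        _ = u⁻¹ * (u * t * u⁻¹) * g := by rw [hconj]
        _ = t * (u⁻¹ * g) := by group
    · show QuotientGroup.mk' C (u⁻¹ * g) = QuotientGroup.mk' C g
      rw [map_mul, show QuotientGroup.mk' C u⁻¹ = 1 from (QuotientGroup.eq_one_iff _).2 (inv_mem huC),
        one_mul]

/-- A non-solvable CN-group has no nontrivial normal subgroup of odd order. -/
theorem odd_normal_eq_bot [Finite G] (hCN : IsCNGroup G) (hns : ¬ Group.IsSolvable G)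
    (N : Subgroup G) [N.Normal] (hN : Odd (Nat.card N)) : N = ⊥ := by
  by_contra hne
  obtain ⟨V, -, hVn, hVN, hV1, -, hVc, -, -⟩ :=
    Solvable.exists_abelian_minimal_normal (S0205.result hN) hne
  haveI := hVn
  haveI := hVc
  exact hV1 (abelian_odd_normal_eq_bot hCN hns V (hN.of_dvd_nat (Subgroup.card_dvd_of_le hVN)))

/-- An element of odd order fixes no nontrivial element of a normal 2-subgroup. -/
theorem fixed_eq_one [Finite G] (hCN : IsCNGroup G) (hns : ¬ Group.IsSolvable G) (R : Subgroup G)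
    [R.Normal] (hR : IsPGroup 2 R) {x r : G} (hx : Odd (orderOf x)) (hx1 : x ≠ 1) (hr : r ∈ R)
    (hc : Commute x r) : r = 1 := by
  haveI : Fact (Nat.Prime 2) := ⟨Nat.prime_two⟩
  by_contra hr1
  -- `x` centralises whatever centralises a fixed element
  have key : ∀ a ∈ R, a ≠ 1 → Commute x a → ∀ b ∈ R, Commute b a → Commute x b := by
    intro a _ ha1 hxa b hb hba
    exact OddOrder.CN.commute_of_centralizer hCN ha1 hba.eq hxa.eq (isPGroup_two_orderOf hR hb)
      (Nat.coprime_two_right.2 hx)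
  have hnt : Nontrivial R := ⟨⟨⟨r, hr⟩, 1, fun e => hr1 (congrArg Subtype.val e)⟩⟩
  obtain ⟨⟨z, hzc⟩, hz1⟩ := @exists_ne (Subgroup.center R) hR.center_nontrivial 1
  have hzR : ∀ b ∈ R, Commute b (z : G) := fun b hb =>
    congrArg Subtype.val (Subgroup.mem_center_iff.1 hzc ⟨b, hb⟩)
  have hxz : Commute x (z : G) := key r hr hr1 hc _ z.2 (hzR r hr).symm
  have hz1' : (z : G) ≠ 1 := fun e => hz1 (Subtype.ext (Subtype.ext e))
  set C := centralizer (R : Set G) with hC
  haveI : C.Normal := by rw [hC]; infer_instance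
  have hxC : x ∈ C := mem_centralizer_iff.2 fun b hb =>
    (key _ z.2 hz1' hxz b hb (hzR b hb)).symm.eq
  -- the 2-complement of `C` is normal
  have hCn : Group.IsNilpotent C := OddOrder.CN.isNilpotent_of_le
    (fun c hc => mem_centralizer_singleton_iff.2 (mem_centralizer_iff.1 hc z z.2).symm) (hCN _ hz1')
  haveI := hCn
  obtain ⟨p, hp, hpx⟩ := Nat.exists_prime_and_dvd (n := orderOf x) fun e => hx1 (orderOf_eq_one_iff.1 e)
  haveI : Fact p.Prime := ⟨hp⟩
  have hp2 : p ≠ 2 := fun e => Nat.not_even_iff_odd.2 hx (even_iff_two_dvd.2 (e ▸ hpx))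
  obtain ⟨Q⟩ : Nonempty (Sylow p C) := Sylow.nonempty
  haveI hQn : (Q : Subgroup C).Normal :=
    Q.normal_of_normalizerCondition Group.normalizerCondition_of_isNilpotent
  haveI := Q.characteristic_of_normal hQn
  have hQ1 : (Q : Subgroup C) ≠ ⊥ := Q.ne_bot_of_dvd_card
    (hpx.trans (C.orderOf_dvd_natCard hxC))
  apply hQ1
  rw [← map_eq_bot_iff_of_injective _ C.subtype_injective]
  refine odd_normal_eq_bot hCN hns _ ?_
  obtain ⟨k, hk⟩ := IsPGroup.iff_card.1 (Q.2.map C.subtype)
  rw [hk]
  exact (hp.odd_of_ne_two hp2).pow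

/-- With a nontrivial 2-core, a non-solvable CN-group is a CIT group. -/
theorem isCIT_of_pCore_ne_bot [Finite G] (hCN : IsCNGroup G) (hns : ¬ Group.IsSolvable G)
    (hR : Cfsg.pCore 2 G ≠ ⊥) : IsCIT G := by
  haveI : Fact (Nat.Prime 2) := ⟨Nat.prime_two⟩
  set R := Cfsg.pCore 2 G
  have hRp : IsPGroup 2 R := PCore.isPGroup_pCore
  refine CITConsumer.isCIT_of_nonAdj fun p hp hp2 => ?_
  intro x hx
  set t := x ^ p with htdef
  set y := x ^ 2 with hydef
  have ht : orderOf t = 2 := by
    rw [orderOf_pow' _ hp.ne_zero, hx, Nat.gcd_mul_left_left, Nat.mul_div_cancel _ hp.pos]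
  have hy : orderOf y = p := by
    rw [orderOf_pow' _ two_ne_zero, hx, Nat.gcd_mul_right_left, Nat.mul_div_cancel_left _ two_pos]
  have ht1 : t ≠ 1 := fun e => by rw [e, orderOf_one] at ht; omega
  have hy1 : y ≠ 1 := fun e => by rw [e, orderOf_one] at hy; exact hp.ne_one hy.symm
  have htt : t * t = 1 := by rw [← sq, ← ht, pow_orderOf_eq_one]
  -- `t` fixes a nontrivial element of `R`
  obtain ⟨r, hr, hr1, htr⟩ : ∃ r ∈ R, r ≠ 1 ∧ Commute t r := by
    obtain ⟨r₀, hr₀, hr₀1⟩ := R.bot_or_exists_ne_one.resolve_left hR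
    by_contra hcon
    push Not at hcon
    have hi := TICentralisers.inverts_of_fpf htt R (fun z hz => by
      have := Subgroup.Normal.conj_mem (inferInstance : R.Normal) z hz t
      rwa [inv_eq_of_mul_eq_one_right htt] at this) fun z hz hzc => by
        by_contra hz1
        exact hcon z hz hz1 hzc.symm
    haveI : Nontrivial R := ⟨⟨⟨r₀, hr₀⟩, 1, fun e => hr₀1 (congrArg Subtype.val e)⟩⟩
    obtain ⟨k, hk⟩ := IsPGroup.iff_card.1 hRp
    have h2 : 2 ∣ Nat.card R := by
      rcases k with _ | k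
      · exact absurd (hk.trans (pow_zero 2)) (Finite.one_lt_card (α := R)).ne'
      · exact hk ▸ dvd_pow_self 2 k.succ_ne_zero
    obtain ⟨⟨z, hz⟩, hz2⟩ := exists_prime_orderOf_dvd_card' 2 h2
    rw [Subgroup.orderOf_mk] at hz2
    have hz1 : z ≠ 1 := fun e => by rw [e, orderOf_one] at hz2; omega
    apply hcon z hz hz1
    have hzz : z⁻¹ = z := inv_eq_of_mul_eq_one_right (by rw [← sq, ← hz2, pow_orderOf_eq_one])
    have := hi z hz
    rw [hzz] at this
    calc t * z = t * z * (t * t) := by rw [htt, mul_one]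
      _ = (t * z * t) * t := by group
      _ = z * t := by rw [this]
  have hodd : Odd (orderOf y) := hy.symm ▸ hp.odd_of_ne_two hp2
  have hyr : Commute y r := OddOrder.CN.commute_of_centralizer hCN ht1 htr.symm.eq
    ((Commute.refl x).pow_pow 2 p).eq (isPGroup_two_orderOf hRp hr) (Nat.coprime_two_right.2 hodd)
  exact hr1 (fixed_eq_one hCN hns R hRp hodd hy1 hr hyr)

end Cfsg.Agent.CNNonsolvable
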