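import Mathlib

/-!
Two elements `u, x` of a ring of characteristic two with `u² = 1`, `x² + x + 1 = 0` and `(u x)^(2^k)` the
inverse of `u x`: in the group they generate an element of order dividing four squares to one.
-/

set_option autoImplicit false

namespace Cfsg.Agent.CNNonsolvable

variable {R : Type*} [Ring R]

theorem add_sq_of_two {h2 : ∀ a : R, a + a = 0} {a b : R} (h : Commute a b) :
    (a + b) ^ 2 = a ^ 2 + b ^ 2 := by
  rw [sq, sq, sq, add_mul, mul_add, mul_add, h.eq]
  calc a * a + b * a + (b * a + b * b) = a * a + (b * a + b * a) + b * b := by abel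
    _ = a * a + b * b := by rw [h2, add_zero]

theorem add_pow_two_pow {h2 : ∀ a : R, a + a = 0} {a b : R} (h : Commute a b) :
    ∀ k : ℕ, (a + b) ^ 2 ^ k = a ^ 2 ^ k + b ^ 2 ^ k
  | 0 => by simp
  | k + 1 => by
    rw [pow_succ, pow_mul, add_pow_two_pow (h2 := h2) h k, add_sq_of_two (h2 := h2) (h.pow_pow _ _),
      ← pow_mul, ← pow_mul]

theorem sq_eq_one_of_fermat {L : Type*} [Group L] (ρ : L →* R) (h2 : ∀ a : R, a + a = 0)
    {u x : L} (hgen : Subgroup.closure {u, x} = ⊤) (hu : ρ u * ρ u = 1)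
    (hx : ρ x * ρ x + ρ x + 1 = 0) {k : ℕ} (hk : 1 ≤ k) (hw : ρ (u * x) ^ 2 ^ k = ρ (u * x)⁻¹)
    {g : L} (hg : ρ g ^ 4 = 1) : ρ g * ρ g = 1 := by
  have hneg : ∀ a : R, -a = a := fun a => neg_eq_of_add_eq_zero_left (h2 a)
  have hx2 : ρ x * ρ x = ρ x + 1 := by
    have e := eq_neg_of_add_eq_zero_left (show ρ x * ρ x + (ρ x + 1) = 0 by rw [← add_assoc]; exact hx)
    rwa [hneg] at e
  have hx3 : ρ x * (ρ x + 1) = 1 := by rw [mul_add, mul_one, hx2, add_assoc, add_comm 1, ← add_assoc,
    h2, zero_add]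
  have hρui : ρ u⁻¹ = ρ u := by
    calc ρ u⁻¹ = ρ u⁻¹ * (ρ u * ρ u) := by rw [hu, mul_one]
      _ = ρ u := by rw [← mul_assoc, ← map_mul, inv_mul_cancel, map_one, one_mul]
  have hρxi : ρ x⁻¹ = ρ x + 1 := by
    calc ρ x⁻¹ = ρ x⁻¹ * (ρ x * (ρ x + 1)) := by rw [hx3, mul_one]
      _ = ρ x + 1 := by rw [← mul_assoc, ← map_mul, inv_mul_cancel, map_one, one_mul]
  set U := ρ u
  set X := ρ x
  set w' := ρ (u * x)⁻¹ with hw'
  have hw'e : w' = X * U + U := by
    rw [hw', mul_inv_rev, map_mul, hρxi, hρui, add_mul, one_mul]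
  set t := U * X + w' with ht
  have hxu : X * U = U * X + U + t := by
    rw [ht, hw'e]
    calc X * U = (U * X + U * X) + (U + U) + X * U := by rw [h2, h2, zero_add, zero_add]
      _ = _ := by abel
  -- `t` is central
  have htU : Commute t U := by
    show t * U = U * t
    rw [ht, hw'e]
    simp only [add_mul, mul_add, mul_assoc, hu, mul_one]
    simp only [← mul_assoc, hu, one_mul]
    abel
  have htX : Commute t X := by
    show t * X = X * t
    rw [ht, hw'e]
    have e : X * (X * U) = X * U + U := by rw [← mul_assoc, hx2, add_mul, one_mul]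
    have e' : U * X * X = U * X + U := by rw [mul_assoc, hx2, mul_add, mul_one]
    simp only [add_mul, mul_add]
    rw [e, e', ← mul_assoc X U X]
    calc U * X + U + (X * U * X + U * X) = (U * X + U * X) + (U + X * U * X) := by abel
      _ = (X * U + X * U) + (U + X * U * X) := by rw [h2, h2]
      _ = X * U * X + (X * U + U + X * U) := by abel
  -- polynomials in `t`
  set S := Subring.closure ({t} : Set R) with hS
  have hScent : ∀ {y : R}, Commute t y → ∀ a ∈ S, Commute a y := fun {y} hy a ha => by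
    induction ha using Subring.closure_induction with
    | mem a ha => rw [Set.mem_singleton_iff.1 ha]; exact hy
    | zero => exact Commute.zero_left y
    | one => exact Commute.one_left y
    | add a b _ _ ha hb => exact ha.add_left hb
    | neg a _ ha => exact ha.neg_left
    | mul a b _ _ ha hb => exact ha.mul_left hb
  have hcU : ∀ a ∈ S, a * U = U * a := fun a ha => (hScent htU a ha).eq
  have hcX : ∀ a ∈ S, a * X = X * a := fun a ha => (hScent htX a ha).eq
  have hcomm : ∀ a ∈ S, ∀ b ∈ S, Commute a b := fun a ha b hb =>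
    hScent (hScent (Commute.refl t) b hb).symm a ha
  have hfrob : ∀ a ∈ S, a ^ 2 ^ k = a := by
    intro a ha
    induction ha using Subring.closure_induction with
    | mem a ha =>
      rw [Set.mem_singleton_iff.1 ha, ht]
      have hc : Commute (U * X) w' := by
        show ρ u * ρ x * ρ (u * x)⁻¹ = ρ (u * x)⁻¹ * (ρ u * ρ x)
        rw [← map_mul, ← map_mul, ← map_mul, mul_inv_cancel, inv_mul_cancel]
      rw [add_pow_two_pow (h2 := h2) hc, show U * X = ρ (u * x) from (map_mul ρ u x).symm, hw,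
        show w' ^ 2 ^ k = ρ (u * x) by
          rw [hw', ← map_pow, inv_pow]
          calc ρ ((u * x) ^ 2 ^ k)⁻¹
              = ρ ((u * x) ^ 2 ^ k)⁻¹ * (w' * ρ (u * x)) := by
                rw [hw', ← map_mul ρ (u * x)⁻¹, inv_mul_cancel, map_one, mul_one]
            _ = ρ (u * x) := by
                rw [← hw, ← map_pow, ← mul_assoc, ← map_mul, inv_mul_cancel, map_one, one_mul],
        add_comm]
    | zero => exact zero_pow (by positivity)
    | one => exact one_pow _
    | add a b ha' hb' ha hb => rw [add_pow_two_pow (h2 := h2) (hcomm a ha' b hb'), ha, hb]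
    | neg a ha' ha => rw [hneg, ha]
    | mul a b ha' hb' ha hb => rw [(hcomm a ha' b hb').mul_pow, ha, hb]
  have htS : t ∈ S := Subring.subset_closure rfl
  -- every group element and its inverse have a common shape
  let P : L → Prop := fun y => ∃ α β γ δ : R, α ∈ S ∧ β ∈ S ∧ γ ∈ S ∧ δ ∈ S ∧
    ρ y = α + β * U + γ * X + δ * (U * X) ∧
    ρ y⁻¹ = (α + γ + δ * t) + β * U + γ * X + δ * (U * X)
  have hPu : ∀ y, P y → P (u * y) := by
    rintro y ⟨α, β, γ, δ, hα, hβ, hγ, hδ, h1, h1'⟩
    refine ⟨β, α, δ, γ, hβ, hα, hδ, hγ, ?_, ?_⟩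
    · have e : ∀ a ∈ S, ∀ z : R, U * (a * z) = a * (U * z) := fun a ha z => by
        rw [← mul_assoc, ← hcU a ha, mul_assoc]
      rw [map_mul, h1]
      simp only [mul_add]
      rw [← hcU α hα, e β hβ, e γ hγ, e δ hδ, hu, mul_one, ← mul_assoc U U X, hu, one_mul]
      abel
    · rw [mul_inv_rev, map_mul, h1', hρui]
      have e1 : γ * X * U = γ * (U * X) + γ * U + γ * t := by rw [mul_assoc, hxu, mul_add, mul_add]
      have e2 : δ * (U * X) * U = δ * X + δ + δ * (t * U) := by
        have e : U * (X * U) = X + 1 + t * U := by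
          rw [hxu, mul_add, mul_add, ← mul_assoc, hu, one_mul, htU.eq]
        rw [mul_assoc, mul_assoc U X U, e, mul_add, mul_add, mul_one]
      simp only [add_mul]
      rw [e1, e2, mul_assoc β, hu, mul_one, mul_assoc δ t U]
      calc α * U + γ * U + δ * (t * U) + β + (γ * (U * X) + γ * U + γ * t) + (δ * X + δ + δ * (t * U))
          = (δ * (t * U) + δ * (t * U)) + (γ * U + γ * U) +
            ((β + δ + γ * t) + α * U + δ * X + γ * (U * X)) := by abel
        _ = _ := by rw [h2, h2, zero_add, zero_add]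
  have hPx : ∀ y, P y → P (x * y) := by
    rintro y ⟨α, β, γ, δ, hα, hβ, hγ, hδ, h1, h1'⟩
    refine ⟨β * t + γ, β + δ, α + γ + δ * t, β, add_mem (mul_mem hβ htS) hγ, add_mem hβ hδ,
      add_mem (add_mem hα hγ) (mul_mem hδ htS), hβ, ?_, ?_⟩
    · have e : ∀ a ∈ S, ∀ z : R, X * (a * z) = a * (X * z) := fun a ha z => by
        rw [← mul_assoc, ← hcX a ha, mul_assoc]
      have exux : X * (U * X) = U + t * X := by
        rw [← mul_assoc, hxu, add_mul, add_mul, mul_assoc, hx2, mul_add, mul_one]
        calc U * X + U + U * X + t * X = (U * X + U * X) + (U + t * X) := by abel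
          _ = U + t * X := by rw [h2, zero_add]
      rw [map_mul, h1]
      simp only [mul_add]
      rw [← hcX α hα, e β hβ, e γ hγ, e δ hδ, hxu, hx2, exux]
      simp only [mul_add, add_mul, mul_one, mul_assoc]
      abel
    · rw [mul_inv_rev, map_mul, h1', hρxi]
      have e1 : γ * X * (X + 1) = γ := by rw [mul_assoc, hx3, mul_one]
      have e2 : δ * (U * X) * (X + 1) = δ * U := by rw [mul_assoc, mul_assoc U, hx3, mul_one]
      have e3 : β * U * (X + 1) = β * (U * X) + β * U := by rw [mul_add, mul_one, mul_assoc]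
      rw [add_mul, add_mul, add_mul, e1, e2, e3, mul_add, mul_one]
      simp only [add_mul]
      calc α * X + γ * X + δ * t * X + (α + γ + δ * t) + (β * (U * X) + β * U) + γ + δ * U
          = (γ + γ) + (α + δ * t + (β * U + δ * U) + (α * X + γ * X + δ * t * X) + β * (U * X)) := by
            abel
        _ = α + δ * t + (β * U + δ * U) + (α * X + γ * X + δ * t * X) + β * (U * X) +
            ((β * t + β * t) + (γ + γ)) := by rw [h2, h2, add_zero, zero_add, add_zero]
        _ = _ := by abel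
  have hall : ∀ y, P y := by
    intro y
    have hy : y ∈ Subgroup.closure {u, x} := hgen ▸ Subgroup.mem_top y
    induction hy using Subgroup.closure_induction_left with
    | one => exact ⟨1, 0, 0, 0, one_mem S, zero_mem S, zero_mem S, zero_mem S, by simp, by simp⟩
    | mul_left z hz w _ ih =>
      rcases hz with rfl | hz
      · exact hPu _ ih
      · rw [Set.mem_singleton_iff.1 hz]; exact hPx _ ih
    | inv_mul_cancel z hz w _ ih =>
      rcases hz with rfl | hz
      · obtain ⟨α, β, γ, δ, hα, hβ, hγ, hδ, h1, h1'⟩ := hPu _ ih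
        refine ⟨α, β, γ, δ, hα, hβ, hγ, hδ, ?_, ?_⟩
        · rw [← h1, map_mul, map_mul, hρui]
        · rw [← h1', mul_inv_rev, mul_inv_rev, inv_inv, map_mul, map_mul, hρui]
      · rw [Set.mem_singleton_iff.1 hz]
        obtain ⟨α, β, γ, δ, hα, hβ, hγ, hδ, h1, h1'⟩ := hPx _ (hPx _ ih)
        have hxx : ρ x * ρ x = ρ x⁻¹ := by rw [hρxi]; exact hx2
        have hxixi : ρ x⁻¹ * ρ x⁻¹ = ρ x := by
          rw [hρxi]
          calc (X + 1) * (X + 1) = X * X + (X + X) + 1 := by
                rw [add_mul, mul_add, mul_one, one_mul]; abel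
            _ = X + (1 + 1) := by rw [h2, hx2, add_zero, add_assoc]
            _ = X := by rw [h2, add_zero]
        refine ⟨α, β, γ, δ, hα, hβ, hγ, hδ, ?_, ?_⟩
        · rw [← h1, map_mul, map_mul, map_mul, ← mul_assoc, hxx]
        · rw [← h1', mul_inv_rev, mul_inv_rev, mul_inv_rev, inv_inv, map_mul, map_mul, map_mul,
            mul_assoc, hxixi]
  obtain ⟨α, β, γ, δ, hα, hβ, hγ, hδ, h1, h1'⟩ := hall g
  set a := γ + δ * t
  have ha : a ∈ S := add_mem hγ (mul_mem hδ htS)
  have hsum : ρ g⁻¹ = ρ g + a := by rw [h1, h1']; simp only [a]; abel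
  have hq : ρ g * ρ g + ρ g * a = 1 := by
    rw [← mul_add, ← hsum, ← map_mul, mul_inv_cancel, map_one]
  have hga : Commute (ρ g) a := by
    rw [h1]
    exact (((hcomm α hα a ha).add_left ((hcomm β hβ a ha).mul_left (hScent htU a ha).symm)).add_left
      ((hcomm γ hγ a ha).mul_left (hScent htX a ha).symm)).add_left
      ((hcomm δ hδ a ha).mul_left ((hScent htU a ha).symm.mul_left (hScent htX a ha).symm))
  have hsq : ρ g * ρ g + 1 = ρ g * a := by
    calc ρ g * ρ g + 1 = ρ g * ρ g + (ρ g * ρ g + ρ g * a) := by rw [hq]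
      _ = ρ g * a := by rw [← add_assoc, h2, zero_add]
  have h4 : (ρ g * a) ^ 2 = 0 := by
    rw [← hsq, add_sq_of_two (h2 := h2) (Commute.one_right _), one_pow, ← sq, ← pow_mul, hg, h2]
  rw [hga.mul_pow] at h4
  have ha2 : a ^ 2 = 0 := by
    have h5 : ρ g ^ 4 * a ^ 2 = ρ g ^ 2 * (ρ g ^ 2 * a ^ 2) := by rw [← mul_assoc, ← pow_add]
    rwa [h4, mul_zero, hg, one_mul] at h5
  have ha0 : a = 0 := by
    rw [← hfrob a ha]
    exact pow_eq_zero_of_le (Nat.le_self_pow (by omega) 2) ha2
  rwa [ha0, mul_zero, add_zero] at hq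

end Cfsg.Agent.CNNonsolvable
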