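import Cfsg.Agent.Lib.CNNonsolvable.Almost
import Cfsg.Agent.Lib.CNNonsolvable.FermatRing
import Cfsg.Agent.Lib.Frobenius.FixedPointFree
import Cfsg.Agent.Lib.PSL2.SmallIso

/-!
A simple CIT group acting on a 2-group with the elements of odd order fixed-point-free is
`PSL(2, 2^n)` or a Suzuki group.
-/

set_option autoImplicit false

namespace Cfsg.Agent.CNNonsolvable

open Subgroup hiding mk
open Cfsg.Agent.CIT (ConclSz)
open Cfsg.Agent.PSL2
open Cfsg.Agent.Frobenius
open scoped MatrixGroups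

variable {L : Type*} [Group L] {V : Type*} [CommGroup V]

/-- Every nontrivial element of odd order fixes only `1`. -/
def OddFpf (φ : L →* MulAut V) : Prop :=
  ∀ x : L, Odd (orderOf x) → x ≠ 1 → ∀ v : V, φ x v = v → v = 1

theorem OddFpf.comp {L' : Type*} [Group L'] {φ : L →* MulAut V} (h : OddFpf φ) (f : L' →* L)
    (hf : Function.Injective f) : OddFpf (φ.comp f) := fun x hx hx1 =>
  h (f x) (by rw [orderOf_injective f hf]; exact hx) fun e => hx1 (hf (e.trans (map_one f).symm))

theorem OddFpf.restrict [Finite L] {φ : L →* MulAut V} (h : OddFpf φ) (A : Subgroup L)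
    (hA : Odd (Nat.card A)) : Fpf.IsFpf (φ.comp A.subtype) := fun a ha =>
  h (a : L) (hA.of_dvd_nat (A.orderOf_dvd_natCard a.2)) fun e => ha (Subtype.ext e)

variable [Finite L] [Finite V] [Nontrivial V]

/-- No elementary subgroup of order `p²`, `p` odd. -/
theorem no_pp {φ : L →* MulAut V} (h : OddFpf φ) {p : ℕ} [Fact p.Prime] (hp2 : p ≠ 2) {a b : L}
    (ha : orderOf a = p) (hb : orderOf b = p) (hab : Commute a b) : b ∈ zpowers a := by
  have hp : ∀ {c : L}, orderOf c = p → IsPGroup p (zpowers c) := fun hc =>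
    IsPGroup.of_card (n := 1) (by rw [Nat.card_zpowers, hc, pow_one])
  have hA := IsPGroup.to_sup_of_normal_right' (hp hb) (hp ha) (by
    rw [zpowers_le, mem_normalizer_iff]
    intro n
    constructor
    · intro hn
      obtain ⟨i, rfl⟩ := hn
      exact ⟨i, by show a ^ i = b * a ^ i * b⁻¹; rw [(hab.symm.zpow_right i).eq, mul_inv_cancel_right]⟩
    · intro hn
      obtain ⟨i, hi⟩ := hn
      refine ⟨i, ?_⟩
      have hi' : a ^ i = b * n * b⁻¹ := hi
      show a ^ i = n
      calc a ^ i = b⁻¹ * a ^ i * b := by rw [mul_assoc, ← (hab.symm.zpow_right i).eq, inv_mul_cancel_left]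
        _ = n := by rw [hi']; group)
  set A := zpowers b ⊔ zpowers a
  obtain ⟨k, hk⟩ := IsPGroup.iff_card.1 hA
  have hodd : Odd (Nat.card A) := hk ▸ ((Fact.out : p.Prime).odd_of_ne_two hp2).pow
  have key := Fpf.mem_zpowers_of_commute (h.restrict A hodd) (p := p)
    (a := ⟨a, le_sup_right (a := zpowers b) (mem_zpowers a)⟩)
    (b := ⟨b, le_sup_left (b := zpowers a) (mem_zpowers b)⟩)
    (Subtype.ext (by rw [SubmonoidClass.coe_pow, ← ha, pow_orderOf_eq_one]; rfl))
    (fun e => by
      have e' : a = 1 := congrArg Subtype.val e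
      rw [e', orderOf_one] at ha
      exact (Fact.out : p.Prime).ne_one ha.symm)
    (Subtype.ext (by rw [SubmonoidClass.coe_pow, ← hb, pow_orderOf_eq_one]; rfl))
    (Subtype.ext hab.eq)
  obtain ⟨i, hi⟩ := key
  exact ⟨i, congrArg Subtype.val hi⟩

/-- Elements of odd prime orders, one normalising the other, commute. -/
theorem commute_of_normalise {φ : L →* MulAut V} (h : OddFpf φ) {p q : ℕ} [Fact p.Prime] [Fact q.Prime]
    (hp2 : p ≠ 2) (hq2 : q ≠ 2) {a b : L} (ha : orderOf a = q) (hb : orderOf b = p)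
    (hab : b * a * b⁻¹ ∈ zpowers a) : Commute a b := by
  set K := normalizer (zpowers a : Set L)
  have hmap : (zpowers a).map (MulAut.conj b).toMonoidHom = zpowers a := by
    refine Subgroup.eq_of_le_of_card_ge ?_ (by
      rw [card_map_of_injective (K := zpowers a) (f := (MulAut.conj b).toMonoidHom) (MulEquiv.injective _)])
    rw [MonoidHom.map_zpowers, zpowers_le]
    exact hab
  have hbK : b ∈ K := mem_normalizer_iff.2 fun n => ⟨fun hn => hmap ▸ ⟨n, hn, rfl⟩, fun hn => by
    rw [← hmap] at hn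
    exact (Subgroup.mem_map_iff_mem (MulEquiv.injective _)).1 hn⟩
  haveI : ((zpowers a).subgroupOf K).Normal := normal_in_normalizer
  set A := ((zpowers a).subgroupOf K ⊔ zpowers (⟨b, hbK⟩ : K)).map K.subtype
  have hcard : Nat.card A ∣ q * p := by
    rw [card_map_of_injective K.subtype_injective]
    refine (PCore.card_sup_dvd _ _).trans (dvd_of_eq ?_)
    rw [Nat.card_congr (Subgroup.subgroupOfEquivOfLe le_normalizer).toEquiv, Nat.card_zpowers,
      Nat.card_zpowers, Subgroup.orderOf_mk, ha, hb]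
  have hodd : Odd (Nat.card A) :=
    (((Fact.out : q.Prime).odd_of_ne_two hq2).mul ((Fact.out : p.Prime).odd_of_ne_two hp2)).of_dvd_nat hcard
  have haA : a ∈ A := ⟨⟨a, le_normalizer (mem_zpowers a)⟩, Subgroup.mem_sup_left (mem_zpowers a), rfl⟩
  have hbA : b ∈ A := ⟨⟨b, hbK⟩, Subgroup.mem_sup_right (mem_zpowers _), rfl⟩
  have key := Fpf.commute_of_conj_mem_zpowers (h.restrict A hodd) (p := p) (q := q)
    (a := ⟨a, haA⟩) (b := ⟨b, hbA⟩)
    (Subtype.ext (by rw [SubmonoidClass.coe_pow, ← ha, pow_orderOf_eq_one]; rfl))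
    (Subtype.ext (by rw [SubmonoidClass.coe_pow, ← hb, pow_orderOf_eq_one]; rfl))
    (by
      obtain ⟨i, hi⟩ := hab
      exact ⟨i, Subtype.ext (by simpa using hi)⟩)
  exact congrArg Subtype.val key.eq

variable {F : Type*} [Field F] [Fintype F]

theorem false_of_nine (hF : Fintype.card F = 9) (φ : PSL(2, F) →* MulAut V) (h : OddFpf φ) : False := by
  haveI : Fact (Nat.Prime 3) := ⟨Nat.prime_three⟩
  haveI : CharP F 3 := charP_of_card_eq_prime_pow (f := 2) (by rw [hF]; rfl)
  classical
  obtain ⟨t, ht⟩ : ∃ t : F, ∀ n : ℕ, t ≠ n := by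
    have hlt : (Finset.image (fun n : ℕ => (n : F)) (Finset.range 3)).card < (Finset.univ : Finset F).card :=
      lt_of_le_of_lt Finset.card_image_le (by rw [Finset.card_range, Finset.card_univ, hF]; norm_num)
    obtain ⟨t, -, ht⟩ := Finset.exists_mem_notMem_of_card_lt_card hlt
    refine ⟨t, fun n hn => ht (Finset.mem_image.2 ⟨n % 3, Finset.mem_range.2 (Nat.mod_lt _ (by norm_num)), ?_⟩)⟩
    rw [hn, CharP.natCast_eq_natCast F 3]
    exact Nat.mod_modEq n 3
  have ht0 : t ≠ 0 := by simpa using ht 0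
  have hmem := no_pp h (p := 3) (by norm_num) (orderOf_mk_uu 3 (one_ne_zero (α := F))) (orderOf_mk_uu 3 ht0)
    (Commute.map (show Commute (uu (1 : F)) (uu t) by
      show uu (1 : F) * uu t = uu t * uu 1
      rw [uu_mul_uu, uu_mul_uu, add_comm]) mk)
  obtain ⟨n, hn⟩ := (isOfFinOrder_of_finite _).mem_powers_iff_mem_zpowers.2 hmem
  have hn' : mk (uu (n : F)) = mk (uu t) := by
    rw [← hn]
    show _ = mk (uu 1) ^ n
    rw [← map_pow, uu_pow, mul_one]
  rcases mk_eq_mk.1 hn' with e | e
  · exact ht n (uu_injective e).symm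
  · have e00 := congrArg (fun g : SL(2, F) => g 0 0) e
    simp at e00
    have h3 : (3 : F) = 0 := by exact_mod_cast CharP.cast_eq_zero F 3
    exact one_ne_zero (α := F) (by linear_combination h3 - e00)

theorem false_of_psl34 (hF : Fintype.card F = 4)
    (φ : Matrix.ProjectiveSpecialLinearGroup (Fin 3) F →* MulAut V) (h : OddFpf φ) : False := by
  haveI : Fact (Nat.Prime 3) := ⟨Nat.prime_three⟩
  obtain ⟨a, b, ha, hb, hab, hnot⟩ := CITConsumer.psl_three_four_nine hF
  exact hnot (no_pp h (by norm_num) ha hb hab)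

theorem false_of_mersenne {p k : ℕ} [hp : Fact p.Prime] [CharP F p] (hF : Fintype.card F = p)
    (hk : p + 1 = 2 ^ k) (h5 : 5 ≤ p) (φ : PSL(2, F) →* MulAut V) (h : OddFpf φ) : False := by
  obtain ⟨r, hr, hrd, hr2⟩ : ∃ r : ℕ, r.Prime ∧ r ∣ p - 1 ∧ r ≠ 2 := by
    obtain ⟨j, rfl⟩ : ∃ j, k = j + 3 := by
      refine ⟨k - 3, ?_⟩
      by_contra h'
      have : 2 ^ k ≤ 2 ^ 2 := Nat.pow_le_pow_right (by norm_num) (by omega)
      omega
    have hp1 : p - 1 = 2 * (2 ^ (j + 2) - 1) := by
      rw [pow_succ] at hk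
      omega
    obtain ⟨r, hr, hrd⟩ := Nat.exists_prime_and_dvd (n := 2 ^ (j + 2) - 1) (by
      have : 2 ^ 2 ≤ 2 ^ (j + 2) := Nat.pow_le_pow_right (by norm_num) (by omega)
      omega)
    refine ⟨r, hr, hp1 ▸ hrd.mul_left 2, ?_⟩
    rintro rfl
    have h1 : (2 : ℕ) ∣ 2 ^ (j + 2) := dvd_pow_self 2 (by omega)
    have h2 : 1 ≤ 2 ^ (j + 2) := Nat.one_le_two_pow
    omega
  haveI := Fact.mk hr
  classical
  obtain ⟨c, hc⟩ := exists_prime_orderOf_dvd_card (G := Fˣ) r (by rw [Fintype.card_units, hF]; exact hrd)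
  have hodd := hr.odd_of_ne_two hr2
  have hcne : ∀ n : ℕ, n ∣ 4 → c ^ n ≠ 1 := fun n hn e => by
    have hd := orderOf_dvd_of_pow_eq_one e
    rw [hc] at hd
    have h4 : r ∣ 2 ^ 2 := hd.trans hn
    exact hr2 ((Nat.prime_dvd_prime_iff_eq hr Nat.prime_two).1 (hr.dvd_of_dvd_pow h4))
  have hb : orderOf (mk (dd c)) = r := by
    refine orderOf_eq_prime (by rw [← map_pow, dd_pow, ← hc, pow_orderOf_eq_one, dd_one, map_one]) ?_
    intro e
    have h2 : mk (dd c) ^ 2 = 1 := by rw [e, one_pow]
    rcases mk_eq_one.1 e with e' | e'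
    · exact hcne 1 (one_dvd 4) (by rw [pow_one]; exact dd_eq_one_iff.1 e')
    · refine hcne 2 (by norm_num) (dd_eq_one_iff.1 ?_)
      rw [← dd_pow, e', sq, neg_mul_neg, one_mul]
  have hconj : mk (dd c) * mk (uu (1 : F)) * (mk (dd c))⁻¹ = mk (uu ((c : F) ^ 2)) := by
    rw [← map_inv, ← map_mul, ← map_mul, dd_conj_uu, mul_one]
  have hq2 : p ≠ 2 := by omega
  have key := commute_of_normalise h (p := r) (q := p) hr2 hq2 (orderOf_mk_uu p (one_ne_zero (α := F))) hb
    (by
      rw [hconj]
      haveI : NeZero p := ⟨hp.out.ne_zero⟩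
      obtain ⟨n, hn⟩ : ∃ n : ℕ, (n : F) = (c : F) ^ 2 := by
        have hbij : Function.Bijective (ZMod.castHom (dvd_refl p) F) :=
          (Fintype.bijective_iff_injective_and_card _).2
            ⟨(ZMod.castHom (dvd_refl p) F).injective, by rw [ZMod.card, hF]⟩
        obtain ⟨z, hz⟩ := hbij.2 ((c : F) ^ 2)
        exact ⟨z.val, by rw [← hz, ← ZMod.natCast_zmod_val z, map_natCast, ZMod.natCast_zmod_val]⟩
      rw [← hn, ← mul_one ((n : F)), ← uu_pow, map_pow]
      exact pow_mem (mem_zpowers _) n)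
  rw [← key.eq, mul_inv_cancel_right] at hconj
  rcases mk_eq_mk.1 hconj with e | e
  · exact hcne 2 (by norm_num) (Units.ext (by rw [Units.val_pow_eq_pow_val]; exact (uu_injective e).symm))
  · have e00 := congrArg (fun g : SL(2, F) => g 0 0) e
    simp at e00
    have h20 : ((2 : ℕ) : F) = 0 := by
      push_cast
      linear_combination e00
    rw [CharP.cast_eq_zero_iff F p] at h20
    exact hq2 ((Nat.prime_dvd_prime_iff_eq hp.out Nat.prime_two).1 h20)

/-- Automorphisms of an abelian group as additive endomorphisms. -/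
def endHom (W : Type*) [CommGroup W] : MulAut W →* AddMonoid.End (Additive W) where
  toFun f := MonoidHom.toAdditive f.toMonoidHom
  map_one' := rfl
  map_mul' _ _ := rfl

theorem false_of_fermat {p k : ℕ} [hp : Fact p.Prime] [CharP F p] (hF : Fintype.card F = p)
    (hk : p = 2 ^ k + 1) (h7 : 7 ≤ p) (hV : IsPGroup 2 V) (φ : PSL(2, F) →* MulAut V) (h : OddFpf φ) :
    False := by
  haveI : Fact (Nat.Prime 2) := ⟨Nat.prime_two⟩
  classical
  obtain ⟨j, rfl⟩ : ∃ j, k = j + 3 := by
    refine ⟨k - 3, ?_⟩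
    by_contra h'
    have : 2 ^ k ≤ 2 ^ 2 := Nat.pow_le_pow_right (by norm_num) (by omega)
    omega
  -- the elements of order two
  let W : Subgroup V := (powMonoidHom 2).ker
  haveI : Nontrivial W := by
    obtain ⟨v, hv⟩ := exists_ne (1 : V)
    obtain ⟨i, hi⟩ := IsPGroup.iff_card.1 hV
    have h2 : 2 ∣ Nat.card V := by
      rcases i with _ | i
      · exact absurd (hi.trans (pow_zero 2)) (Finite.one_lt_card (α := V)).ne'
      · exact hi ▸ dvd_pow_self 2 i.succ_ne_zero
    obtain ⟨w, hw⟩ := exists_prime_orderOf_dvd_card' 2 h2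
    refine ⟨⟨⟨w, by rw [MonoidHom.mem_ker, powMonoidHom_apply, ← hw, pow_orderOf_eq_one]⟩, 1, fun e => ?_⟩⟩
    rw [show w = 1 from congrArg Subtype.val e, orderOf_one] at hw
    omega
  have hstab : ∀ g, ∀ w ∈ W, φ g w ∈ W := fun g w hw => by
    rw [MonoidHom.mem_ker, powMonoidHom_apply] at hw ⊢
    rw [← map_pow, hw, map_one]
  let ψ : PSL(2, F) →* MulAut W := MonoidHom.mk'
    (fun g =>
      { toFun := fun w => ⟨φ g w, hstab g w w.2⟩
        invFun := fun w => ⟨φ g⁻¹ w, hstab g⁻¹ w w.2⟩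
        left_inv := fun w => Subtype.ext (by
          show φ g⁻¹ (φ g (w : V)) = w
          rw [← MulAut.mul_apply, ← map_mul, inv_mul_cancel, map_one, MulAut.one_apply])
        right_inv := fun w => Subtype.ext (by
          show φ g (φ g⁻¹ (w : V)) = w
          rw [← MulAut.mul_apply, ← map_mul, mul_inv_cancel, map_one, MulAut.one_apply])
        map_mul' := fun w w' => Subtype.ext (map_mul (φ g) (w : V) (w' : V)) })
    fun g g' => MulEquiv.ext fun w => Subtype.ext (by
      show φ (g * g') (w : V) = φ g (φ g' (w : V))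
      rw [map_mul, MulAut.mul_apply])
  have hψ : OddFpf ψ := fun g hg hg1 w hw => Subtype.ext (h g hg hg1 w (congrArg Subtype.val hw))
  let ρ : PSL(2, F) →* AddMonoid.End (Additive W) := (endHom W).comp ψ
  have hρ : ∀ g (w : Additive W), ρ g w = Additive.ofMul (ψ g (Additive.toMul w)) := fun _ _ => rfl
  have h2 : ∀ a : AddMonoid.End (Additive W), a + a = 0 := fun a => AddMonoidHom.ext fun w => by
    show a w + a w = 0
    refine Additive.toMul.injective (Subtype.ext ?_)
    have := (Additive.toMul (a w)).2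
    rw [MonoidHom.mem_ker, powMonoidHom_apply, sq] at this
    exact this
  -- generators
  set u := mk (ww : SL(2, F)) with hu
  set x := u * mk (uu (1 : F)) with hx
  have huu : u * u = 1 := by rw [hu, ← map_mul, ww_mul_self, mk_neg_one]
  have hux : u * x = mk (uu (1 : F)) := by rw [hx, ← mul_assoc, huu, one_mul]
  have hx3 : orderOf x = 3 := by
    haveI : Fact (Nat.Prime 3) := ⟨Nat.prime_three⟩
    refine orderOf_eq_prime ?_ ?_
    · rw [hx, hu, ← map_mul, ← map_pow, pow_three']
      refine mk_eq_one.2 (Or.inl ?_)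
      apply ext2 <;> simp [mul00, mul01, mul10, mul11] <;> ring
    · intro e
      rw [hx, hu, ← map_mul] at e
      rcases mk_eq_one.1 e with e' | e' <;>
        simpa [mul00] using congrArg (fun g : SL(2, F) => g 0 0) e'
  have hXeq : ρ x * ρ x + ρ x + 1 = 0 := by
    refine AddMonoidHom.ext fun w => ?_
    have h3 : ρ x * (ρ x * ρ x) = 1 := by
      rw [← map_mul, ← map_mul, ← pow_three, ← hx3, pow_orderOf_eq_one, map_one]
    have hfix : ρ x * (ρ x * ρ x + ρ x + 1) = ρ x * ρ x + ρ x + 1 := by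
      rw [mul_add, mul_add, h3, mul_one]; abel
    have := congrArg (fun f : AddMonoid.End (Additive W) => f w) hfix
    refine Additive.toMul.injective (hψ x (hx3.symm ▸ by decide) (fun e => ?_) _ ?_)
    · rw [e, orderOf_one] at hx3; omega
    · exact congrArg Additive.toMul this
  have hgen : closure {u, x} = (⊤ : Subgroup PSL(2, F)) := by
    set K := closure {u, x}
    have huK : u ∈ K := subset_closure (Or.inl rfl)
    have hT : mk (uu (1 : F)) ∈ K := hux ▸ mul_mem huK (subset_closure (Or.inr rfl))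
    haveI : NeZero p := ⟨hp.out.ne_zero⟩
    have hall : ∀ s : F, mk (uu s) ∈ K := fun s => by
      have hbij : Function.Bijective (ZMod.castHom (dvd_refl p) F) :=
        (Fintype.bijective_iff_injective_and_card _).2
          ⟨(ZMod.castHom (dvd_refl p) F).injective, by rw [ZMod.card, hF]⟩
      obtain ⟨z, rfl⟩ := hbij.2 s
      rw [← ZMod.natCast_zmod_val z, map_natCast, ← mul_one ((z.val : F)), ← uu_pow, map_pow]
      exact pow_mem hT _
    have htop : K.comap mk = ⊤ := eq_top_of_uu_ll (fun s => hall s) fun s => by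
      show mk (ll s) ∈ K
      rw [show ll s = ww * uu (-s) * ww⁻¹ by rw [ww_conj_uu, neg_neg], map_mul, map_mul, map_inv]
      exact mul_mem (mul_mem huK (hall _)) (inv_mem huK)
    rw [eq_top_iff]
    intro g _
    obtain ⟨g, rfl⟩ := mk_surjective g
    exact (htop ▸ Subgroup.mem_top g : g ∈ K.comap mk)
  -- an element of order four
  obtain ⟨c, hc⟩ := IsCyclic.exists_generator (α := Fˣ)
  set d := c ^ 2 ^ j
  have hd : orderOf d = 8 := by
    have hco : orderOf c = 2 ^ (j + 3) := by
      rw [orderOf_eq_card_of_forall_mem_zpowers hc, Nat.card_eq_fintype_card, Fintype.card_units, hF]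
      omega
    rw [orderOf_pow' _ (by positivity), hco, pow_add, Nat.gcd_mul_right_left,
      Nat.mul_div_cancel_left _ (by positivity)]
    norm_num
  have hd4 : mk (dd d) ^ 4 = 1 := by
    rw [← map_pow, dd_pow]
    refine mk_eq_one.2 (Or.inr ?_)
    have hne : d ^ 4 ≠ 1 := fun e => by
      have := orderOf_dvd_of_pow_eq_one e
      rw [hd] at this
      norm_num at this
    have h8 : ((d ^ 4 : Fˣ) : F) * ((d ^ 4 : Fˣ) : F) = 1 := by
      rw [← Units.val_mul, ← pow_add, show 4 + 4 = 8 from rfl, ← hd, pow_orderOf_eq_one, Units.val_one]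
    have hneg : ((d ^ 4 : Fˣ) : F) = -1 :=
      (mul_self_eq_one_iff.1 h8).resolve_left fun e => hne (Units.ext e)
    have hinv : (((d ^ 4)⁻¹ : Fˣ) : F) = -1 := by rw [Units.val_inv_eq_inv_val, hneg, inv_neg_one]
    apply ext2 <;> simp [hneg, hinv, -Units.val_pow_eq_pow_val, -inv_pow]
  have hw : ρ (u * x) ^ 2 ^ (j + 3) = ρ (u * x)⁻¹ := by
    rw [← map_pow, hux, ← map_pow (mk (F := F)), uu_pow, ← map_inv (mk (F := F)), uu_inv]
    congr 2
    congr 1
    have h0 : ((p : ℕ) : F) = 0 := CharP.cast_eq_zero F p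
    rw [hk] at h0
    push_cast at h0 ⊢
    linear_combination h0
  have key := sq_eq_one_of_fermat ρ h2 hgen (by rw [← map_mul, huu, map_one]) hXeq (k := j + 3)
    (by omega) hw (g := mk (dd d)) (by rw [← map_pow, hd4, map_one])
  rw [← map_mul] at key
  -- so the action has a kernel
  set s := mk (dd d) * mk (dd d) with hs
  have hs1 : s ≠ 1 := by
    rw [hs, ← map_mul, dd_mul_dd]
    intro e
    have hne : ∀ n : ℕ, n < 8 → 0 < n → d ^ n ≠ 1 := fun n hn hn0 e => by
      have := Nat.le_of_dvd hn0 (orderOf_dvd_of_pow_eq_one e)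
      omega
    rcases mk_eq_one.1 e with e' | e'
    · exact hne 2 (by norm_num) (by norm_num) (by rw [sq]; exact dd_eq_one_iff.1 e')
    · refine hne 4 (by norm_num) (by norm_num) (dd_eq_one_iff.1 ?_)
      rw [show d ^ 4 = d * d * (d * d) by rw [pow_succ, pow_three', mul_assoc (d * d)], ← dd_mul_dd, e', neg_mul_neg, one_mul]
  have hsk : s ∈ ψ.ker := by
    rw [MonoidHom.mem_ker]
    refine MulEquiv.ext fun w => ?_
    exact Additive.ofMul.injective ((hρ s (Additive.ofMul w)).symm.trans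
      (congrArg (fun f : AddMonoid.End (Additive W) => f (Additive.ofMul w)) key))
  haveI : IsSimpleGroup PSL(2, F) := psl_isSimpleGroup (by omega)
  rcases (inferInstance : ψ.ker.Normal).eq_bot_or_eq_top with hb | ht
  · rw [hb, Subgroup.mem_bot] at hsk; exact hs1 hsk
  · obtain ⟨w, hw1⟩ := exists_ne (1 : W)
    refine hw1 (hψ x (hx3.symm ▸ by decide) (fun e => ?_) w ?_)
    · rw [e, orderOf_one] at hx3; omega
    · have hxk : x ∈ ψ.ker := ht ▸ Subgroup.mem_top x
      rw [MonoidHom.mem_ker] at hxk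
      rw [hxk, MulAut.one_apply]

/-- **The simple CIT groups with a fixed-point-free 2-module.** -/
theorem even_or_sz [IsSimpleGroup L] (hne : ∃ a b : L, a * b ≠ b * a) (hL : ConclSz L)
    (hV : IsPGroup 2 V) (φ : L →* MulAut V) (h : OddFpf φ) :
    (∃ (K : Type) (_ : Field K) (_ : Fintype K), (2 : K) = 0 ∧ 4 ≤ Fintype.card K ∧
        Nonempty (L ≃* PSL(2, K))) ∨
      ∃ (K : Type) (_ : Field K) (_ : Fintype K) (m : ℕ), 1 ≤ m ∧
        Fintype.card K = 2 ^ (2 * m + 1) ∧ Nonempty (L ≃* Cfsg.Lie.Sz K (2 ^ (m + 1))) := by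
  rcases hL with ⟨K, iK, iKt, hq, ⟨e⟩⟩ | ⟨K, iK, iKt, hK, ⟨e⟩⟩ | hs
  · left
    have h4 := four_le_card hne e
    have hφ := h.comp e.symm.toMonoidHom e.symm.injective
    rcases hq with h9 | ⟨n, hn⟩ | ⟨hp, k, hk⟩
    · exact (false_of_nine h9 _ hφ).elim
    · refine ⟨K, iK, iKt, even_card_iff.1 (hn ▸ Nat.even_pow.2 ⟨even_two, ?_⟩), h4, ⟨e⟩⟩
      rintro rfl
      omega
    · haveI := Fact.mk hp
      haveI : CharP K (Fintype.card K) := charP_of_card_eq_prime rfl
      have h5 : 5 ≤ Fintype.card K := by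
        rcases h4.lt_or_eq with h' | h'
        · omega
        · exact absurd (h'.symm ▸ hp) (by norm_num)
      rcases hk with hk | hk
      · by_cases h5' : Fintype.card K = 5
        · -- `PSL(2, 5) ≅ PSL(2, 4)`
          haveI : Fact (Nat.Prime 2) := ⟨Nat.prime_two⟩
          letI : Fintype (GaloisField 2 2) := Fintype.ofFinite _
          have hc : Fintype.card (GaloisField 2 2) = 4 := by
            rw [← Nat.card_eq_fintype_card, GaloisField.card 2 2 (by norm_num)]; rfl
          obtain ⟨e₁⟩ := psl_four_five_iso (F := K) (Or.inr h5')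
          obtain ⟨e₂⟩ := psl_four_five_iso (F := GaloisField 2 2) (Or.inl hc)
          exact ⟨GaloisField 2 2, inferInstance, inferInstance, CharTwo.two_eq_zero, hc.ge,
            ⟨e.trans (e₁.trans e₂.symm)⟩⟩
        · refine (false_of_fermat (p := Fintype.card K) rfl hk ?_ hV _ hφ).elim
          rcases Nat.lt_or_ge (Fintype.card K) 7 with h' | h'
          · exfalso
            have : Fintype.card K = 6 := by omega
            exact absurd (this ▸ hp) (by norm_num)
          · exact h'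
      · exact (false_of_mersenne (p := Fintype.card K) rfl hk h5 _ hφ).elim
  · exact (false_of_psl34 hK _ (h.comp e.symm.toMonoidHom e.symm.injective)).elim
  · exact Or.inr hs

end Cfsg.Agent.CNNonsolvable
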