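import Cfsg.Agent.Lib.CNNonsolvable.Socle
import Cfsg.Agent.Lib.CNNonsolvable.Exclude
import Cfsg.Agent.Lib.MartineauSz.Main
import Cfsg.Agent.Lib.HigmanSL2.Main

/-!
**Non-solvable CN-groups.**
-/

set_option autoImplicit false

namespace Cfsg.Agent.CNNonsolvable

open Subgroup hiding mk
open Cfsg (IsCNGroup)
open Cfsg.Agent.CIT (IsCIT ConclSz)
open Cfsg.Agent.PSL2
open scoped MatrixGroups

variable {G : Type*} [Group G]

/-- In characteristic two `SL(2) = PSL(2)`. -/
theorem mk_bijective {F : Type*} [Field F] (h2 : (2 : F) = 0) :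
    Function.Bijective (mk : SL(2, F) →* PSL(2, F)) := by
  refine ⟨fun a b h => ?_, mk_surjective⟩
  rcases mk_eq_mk.1 h with e | e
  · exact e
  · have hneg : ∀ z : F, -z = z := fun z => by linear_combination -(z) * h2
    rw [e]
    apply ext2 <;> simp [hneg]

/-- The centre of a subgroup, seen in the whole group. -/
abbrev centreIn (R : Subgroup G) : Subgroup G := (Subgroup.center R).map R.subtype

theorem centreIn_comm {R : Subgroup G} {z r : G} (hz : z ∈ centreIn R) (hr : r ∈ R) :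
    r * z = z * r := by
  obtain ⟨y, hy, rfl⟩ := hz
  exact congrArg Subtype.val (Subgroup.mem_center_iff.1 hy ⟨r, hr⟩)

instance centreInCommGroup (R : Subgroup G) : CommGroup (centreIn R) :=
  { Subgroup.toGroup (centreIn R) with
    mul_comm := fun a b => Subtype.ext (centreIn_comm b.2 (map_subtype_le _ a.2)) }

theorem nontrivial_centreIn [Finite G] {R : Subgroup G} (hR : IsPGroup 2 R) (hR1 : R ≠ ⊥) :
    Nontrivial (centreIn R) := by
  haveI : Fact (Nat.Prime 2) := ⟨Nat.prime_two⟩
  haveI : Nontrivial R := (Subgroup.nontrivial_iff_ne_bot R).2 hR1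
  rw [Subgroup.nontrivial_iff_ne_bot, Ne, map_eq_bot_iff_of_injective _ R.subtype_injective]
  exact (Subgroup.nontrivial_iff_ne_bot _).1 hR.center_nontrivial

/-- The centre of a normal 2-subgroup is a fixed-point-free module for the quotient. -/
theorem exists_oddFpf_action [Finite G] (hCN : IsCNGroup G) (hns : ¬ Group.IsSolvable G)
    (R : Subgroup G) [R.Normal] (hR : IsPGroup 2 R) :
    ∃ φ : G ⧸ R →* MulAut (centreIn R), OddFpf φ := by
  refine ⟨QuotientGroup.lift R (MulAut.conjNormal : G →* MulAut (centreIn R))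
    (fun r hr => MulEquiv.ext fun z => Subtype.ext (by
      show r * (z : G) * r⁻¹ = z
      rw [centreIn_comm z.2 hr, mul_inv_cancel_right])), ?_⟩
  intro y hy hy1 v hv
  obtain ⟨x, hx, rfl⟩ := MartineauSz.exists_odd_lift R y hy
  change MulAut.conjNormal x v = v at hv
  refine Subtype.ext (fixed_eq_one hCN hns R hR hx (fun e => hy1 (by rw [e]; rfl))
    (map_subtype_le _ v.2) ?_)
  exact mul_inv_eq_iff_eq_mul.1 (congrArg Subtype.val hv)

/-- **Non-solvable CN-groups.** -/
theorem structure_theorem [Finite G] (hCN : IsCNGroup G) (hns : ¬ Group.IsSolvable G) :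
    (IsSimpleGroup G ∧ ¬ IsMulCommutative G) ∨
    (∃ (N : Subgroup G), N.Normal ∧ N.index = 2 ∧ ∃ (F : Type) (_ : Field F) (_ : Fintype F),
        Fintype.card F = 9 ∧ Nonempty (N ≃* PSL(2, F))) ∨
    (∃ (N : Subgroup G) (_ : N.Normal), N ≠ ⊥ ∧ IsPGroup 2 N ∧ IsMulCommutative N ∧
        (∀ x ∈ N, x * x = 1) ∧
        ((∃ (F : Type) (_ : Field F) (_ : Fintype F), CharP F 2 ∧ 4 ≤ Fintype.card F ∧
            Nonempty (G ⧸ N ≃* PSL(2, F))) ∨ Cfsg.IsSuzuki (G ⧸ N))) := by
  haveI : Fact (Nat.Prime 2) := ⟨Nat.prime_two⟩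
  by_cases hR : Cfsg.pCore 2 G = ⊥
  · -- trivial 2-core: almost simple
    obtain ⟨M, hMn, hMs, hne⟩ := exists_socle hCN hns hR
    haveI := hMn
    haveI := hMs
    have hL := CIT.classification_sz hne
      (CIT.isCIT_of_isCN hne (OddOrder.CN.of_injective hCN M.subtype M.subtype_injective))
    have hconj : ∀ a b : M, orderOf a = 2 → orderOf b = 2 → IsConj a b := fun a b =>
      involutions_isConj hL
    have hG : IsCIT G := isCIT_of_socle hCN M hne hconj
    rcases eq_top_or_nine hG M hne (CITConsumer.isPGroup_outer hG (CIT.two_dvd_card hne) hconj) hL with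
      h | ⟨h2, K, iK, iKt, h9, he⟩
    · subst h
      refine Or.inl ⟨?_, ?_⟩
      · haveI : Nontrivial G := Subgroup.topEquiv.toEquiv.symm.nontrivial
        exact (Subgroup.topEquiv (G := G)).symm.isSimpleGroup
      · intro hc
        exact hns (Group.isSolvable_of_comm fun a b => hc.is_comm.comm a b)
    · exact Or.inr (Or.inl ⟨M, hMn, h2, K, iK, iKt, h9, he⟩)
  · -- nontrivial 2-core
    set R := Cfsg.pCore 2 G with hRdef
    have hRp : IsPGroup 2 R := PCore.isPGroup_pCore
    have hqC : IsCIT (G ⧸ R) := CITConsumer.isCIT_quotient (isCIT_of_pCore_ne_bot hCN hns hR) R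
    obtain ⟨M, hMn, hMs, hne, hMC, -⟩ := CITConsumer.exists_socle hqC
      (CITConsumer.not_isSolvable_quotient_pCore hns) PCore.pCore_quotient_self_eq_bot
    haveI := hMn
    haveI := hMs
    have hL := CIT.classification_sz hne hMC
    have hconj : ∀ a b : M, orderOf a = 2 → orderOf b = 2 → IsConj a b := fun a b =>
      involutions_isConj hL
    have hfix : ∀ x : G, Odd (orderOf x) → x ≠ 1 → ∀ q ∈ R, x * q * x⁻¹ = q → q = 1 :=
      fun x hx hx1 q hq h => fixed_eq_one hCN hns R hRp hx hx1 hq (mul_inv_eq_iff_eq_mul.1 h)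
    haveI := nontrivial_centreIn hRp hR
    have hZp : IsPGroup 2 (centreIn R) := hRp.to_le (map_subtype_le _)
    obtain ⟨φ, hφ⟩ := exists_oddFpf_action hCN hns R hRp
    rcases eq_top_or_nine hqC M hne (CITConsumer.isPGroup_outer hqC (CIT.two_dvd_card hne) hconj) hL with
      h | ⟨-, K, iK, iKt, h9, ⟨e⟩⟩
    rotate_left
    · exact (false_of_nine h9 ((φ.comp M.subtype).comp e.symm.toMonoidHom)
        ((hφ.comp M.subtype M.subtype_injective).comp e.symm.toMonoidHom e.symm.injective)).elim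
    let f : G ⧸ R ≃* M := Subgroup.topEquiv.symm.trans (MulEquiv.subgroupCongr h.symm)
    right; right
    rcases even_or_sz hne hL hZp (φ.comp M.subtype) (hφ.comp M.subtype M.subtype_injective) with
      ⟨K, iK, iKt, hK2, hK4, ⟨e⟩⟩ | ⟨K, iK, iKt, m, hm, hK, ⟨e⟩⟩
    · haveI : Fact (Nat.Prime 3) := ⟨Nat.prime_three⟩
      let e' : G ⧸ R ≃* SL(2, K) :=
        (f.trans e).trans (MulEquiv.ofBijective mk (mk_bijective hK2)).symm
      obtain ⟨x, hx⟩ := exists_prime_orderOf_dvd_card' (G := G) 3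
        ((Nat.card_congr (f.trans e).toEquiv ▸ CITConsumer.three_dvd_card_psl).trans
          (Subgroup.card_quotient_dvd_card R))
      have hsq := (HigmanSL2.higman R hRp hK2 (by rwa [Nat.card_eq_fintype_card]) e' x hx
        fun q hq => hfix x (hx ▸ by decide) (fun e0 => by rw [e0, orderOf_one] at hx; omega) q hq).1
      have hinv : ∀ z : R, z⁻¹ = z := fun z =>
        inv_eq_of_mul_eq_one_left (Subtype.ext (hsq _ z.2))
      refine ⟨R, inferInstance, hR, hRp, ⟨⟨fun a b => ?_⟩⟩, hsq, Or.inl ⟨K, iK, iKt,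
        (CharP.charP_iff_prime_eq_zero Nat.prime_two).2 (by exact_mod_cast hK2), hK4, ⟨f.trans e⟩⟩⟩
      calc a * b = (a * b)⁻¹ := (hinv _).symm
        _ = b * a := by rw [_root_.mul_inv_rev, hinv, hinv]
    · have hM := MartineauSz.martineau hm hK R hRp ((f.trans e).trans (SZ.szEquiv hm hK).symm) hfix
      refine ⟨R, inferInstance, hR, hRp, ⟨⟨fun a b => Subtype.ext (hM a a.2 b b.2).1⟩⟩,
        fun a ha => (hM a ha a ha).2, Or.inr ⟨?_, m, hm, ?_⟩⟩
      · haveI : Nontrivial (G ⧸ R) := f.toEquiv.nontrivial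
        exact f.isSimpleGroup
      · rw [Nat.card_congr (f.trans e).toEquiv, SZ.card_LieSz hm hK, hK]

end Cfsg.Agent.CNNonsolvable
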