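import Cfsg.Agent.Lib.CNNonsolvable.Core
import Cfsg.Agent.Lib.ZStar.Main
import Cfsg.Agent.Lib.Socle.Factors

/-!
Non-solvable CN-groups with trivial 2-core: the socle is a simple CIT group, and if it has one class of
involutions the whole group is CIT.
-/

set_option autoImplicit false

namespace Cfsg.Agent.CNNonsolvable

open Subgroup
open Cfsg (IsCNGroup)
open Cfsg.Agent.CIT (IsCIT)

variable {G : Type*} [Group G]

theorem not_isNilpotent_of_simple {M : Type*} [Group M] [IsSimpleGroup M]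
    (hne : ∃ a b : M, a * b ≠ b * a) : ¬ Group.IsNilpotent M := fun h => by
  haveI := h
  obtain ⟨a, b, hab⟩ := hne
  exact hab (IsSimpleGroup.comm_iff_isSolvable.2 inferInstance a b)

/-- The socle of a non-solvable CN-group with trivial 2-core is simple. -/
theorem exists_socle [Finite G] (hCN : IsCNGroup G) (hns : ¬ Group.IsSolvable G)
    (hR : Cfsg.pCore 2 G = ⊥) :
    ∃ M : Subgroup G, M.Normal ∧ IsSimpleGroup M ∧ (∃ a b : M, a * b ≠ b * a) := by
  haveI : Fact (Nat.Prime 2) := ⟨Nat.prime_two⟩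
  haveI : Nontrivial G := by
    by_contra h
    haveI := not_nontrivial_iff_subsingleton.1 h
    exact hns inferInstance
  obtain ⟨L, hLn, -, hL, hmin⟩ := Solvable.exists_minimal_normal (K := (⊤ : Subgroup G)) top_ne_bot
  have hnc : ¬ IsMulCommutative L := by
    intro hc
    obtain ⟨p, hp, hexp⟩ := Perm.exists_prime_exponent_of_abelian_minimal L hL hmin
    haveI : Fact p.Prime := ⟨hp⟩
    have hLp : IsPGroup p L := fun x => ⟨1, Subtype.ext (by simpa using hexp x x.2)⟩
    by_cases hp2 : p = 2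
    · subst hp2
      exact hL (eq_bot_iff.2 (hR ▸ PCore.le_pCore hLp))
    · obtain ⟨k, hk⟩ := IsPGroup.iff_card.1 hLp
      exact hL (odd_normal_eq_bot hCN hns L (hk ▸ (hp.odd_of_ne_two hp2).pow))
  obtain ⟨T, hT⟩ := Socle.exists_factors L hL hmin hnc
  obtain ⟨T₀, hT₀⟩ := hT.nonempty
  have hne : ∀ S ∈ T, ∃ a b : S, a * b ≠ b * a := fun S hS => by
    by_contra h
    exact hT.nonabelian S hS ⟨⟨fun a b => by_contra fun hab => h ⟨a, b, hab⟩⟩⟩
  have huniq : ∀ S ∈ T, S = T₀ := by
    intro S hS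
    by_contra hne'
    haveI := hT.simple S hS
    haveI := hT.simple T₀ hT₀
    obtain ⟨a, ha⟩ := exists_ne (1 : T₀)
    exact not_isNilpotent_of_simple (hne S hS) (OddOrder.CN.isNilpotent_of_le
      (fun s hs => mem_centralizer_singleton_iff.2 (hT.comm S hS T₀ hT₀ hne' s hs a a.2))
      (hCN (a : G) fun e => ha (Subtype.ext e)))
  have hLT : L = T₀ := by
    rw [← hT.sSup_eq]
    exact le_antisymm (sSup_le fun S hS => (huniq S hS).le) (le_sSup hT₀)
  subst hLT
  exact ⟨L, hLn, hT.simple L hT₀, hne L hT₀⟩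

/-- An element of odd order commuting with an involution of the socle is trivial. -/
theorem eq_one_of_commute_socle [Finite G] (hCN : IsCNGroup G) (M : Subgroup G) [M.Normal]
    [IsSimpleGroup M] (hne : ∃ a b : M, a * b ≠ b * a)
    (hconj : ∀ a b : M, orderOf a = 2 → orderOf b = 2 → IsConj a b) {x : G} (hx : Odd (orderOf x))
    {t : M} (ht : orderOf t = 2) (hxt : Commute x (t : G)) : x = 1 := by
  haveI : Fact (Nat.Prime 2) := ⟨Nat.prime_two⟩
  have hMCN : IsCNGroup M := OddOrder.CN.of_injective hCN M.subtype M.subtype_injective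
  have hM : IsCIT M := CIT.isCIT_of_isCN hne hMCN
  -- we may take `t` central in a Sylow subgroup
  obtain ⟨S, z, hz2, hzS, hzc⟩ : ∃ (S : Sylow 2 M) (z : M), orderOf z = 2 ∧ z ∈ S ∧
      ∀ s ∈ (S : Subgroup M), s * z = z * s := by
    obtain ⟨S⟩ : Nonempty (Sylow 2 M) := Sylow.nonempty
    haveI : Nontrivial S := (Subgroup.nontrivial_iff_ne_bot _).2
      (S.ne_bot_of_dvd_card (CIT.two_dvd_card hne))
    haveI := S.2.center_nontrivial
    obtain ⟨k, hk⟩ := IsPGroup.iff_card.1 (S.2.to_subgroup (Subgroup.center S))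
    have h2 : 2 ∣ Nat.card (Subgroup.center S) := by
      rcases k with _ | k
      · exact absurd (hk.trans (pow_zero 2)) (Finite.one_lt_card (α := Subgroup.center S)).ne'
      · exact hk ▸ dvd_pow_self 2 k.succ_ne_zero
    obtain ⟨⟨z, hzc⟩, hz⟩ := exists_prime_orderOf_dvd_card' 2 h2
    rw [Subgroup.orderOf_mk] at hz
    exact ⟨S, z, by rw [Subgroup.orderOf_coe, hz], z.2,
      fun s hs => congrArg Subtype.val (Subgroup.mem_center_iff.1 hzc ⟨s, hs⟩)⟩
  obtain ⟨c, hc⟩ := isConj_iff.1 (hconj t z ht hz2)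
  set g := (c : G) * x * (c : G)⁻¹ with hg
  suffices g = 1 by simpa [hg] using this
  have hgo : Odd (orderOf g) := by
    rw [show g = MulAut.conj (c : G) x from rfl, MulEquiv.orderOf_eq]; exact hx
  have hgz : Commute g (z : G) := by
    have hc' : (c : G) * t * (c : G)⁻¹ = z := congrArg Subtype.val hc
    rw [← hc']
    show (c : G) * x * (c : G)⁻¹ * ((c : G) * t * (c : G)⁻¹) = _
    calc _ = (c : G) * (x * t) * (c : G)⁻¹ := by group
      _ = _ := by rw [hxt.eq, hg]; group
  by_contra hg1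
  -- `g` centralises the centraliser of any involution it centralises
  have hcent : ∀ v : M, orderOf v = 2 → Commute g (v : G) → ∀ a : M, Commute a v →
      Commute g (a : G) := by
    intro v hv hgv a hav
    refine OddOrder.CN.commute_of_centralizer hCN (x := (v : G)) ?_ (congrArg Subtype.val hav.eq) hgv.eq
      ?_ (Nat.coprime_two_right.2 hgo)
    · intro e
      rw [← Subgroup.orderOf_coe, e, orderOf_one] at hv
      omega
    · obtain ⟨k, hk⟩ := hM v hv ⟨a, mem_centralizer_singleton_iff.2 hav.eq⟩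
      have hk' : a ^ 2 ^ k = 1 := congrArg Subtype.val hk
      exact ⟨k, by rw [← SubmonoidClass.coe_pow, hk', OneMemClass.coe_one]⟩
  have hfix : ∀ a : M, Commute g (a : G) → a ∈ (S : Subgroup M) := by
    set X := (centralizer ({g} : Set G)).subgroupOf M
    have hmem : ∀ a : M, a ∈ X ↔ Commute g (a : G) := fun a =>
      ⟨fun h => (mem_centralizer_singleton_iff.1 (mem_subgroupOf.1 h)).symm,
        fun h => mem_subgroupOf.2 (mem_centralizer_singleton_iff.2 h.eq.symm)⟩
    have hSX : (S : Subgroup M) ≤ X := fun s hs => (hmem s).2 (hcent z hz2 hgz s (hzc s hs))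
    have hX : IsPGroup 2 X := by
      refine IsPGroup.iff_orderOf.2 fun a => ⟨_, Nat.eq_prime_pow_of_unique_prime_dvd (orderOf_pos a).ne'
        fun {r} hr hd => ?_⟩
      by_contra h2
      haveI : Fact r.Prime := ⟨hr⟩
      rw [← Subgroup.orderOf_coe] at hd
      set b := (a : M) ^ (orderOf (a : M) / r)
      have hb : orderOf b = r := orderOf_pow_orderOf_div (orderOf_pos _).ne' hd
      have hgb : Commute g (b : G) := (hmem b).1 (pow_mem a.2 _)
      have hcomm := OddOrder.CN.commute_of_centralizer hCN hg1 hgz.eq.symm hgb.eq.symm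
        (u := (z : G)) (p := 2) ⟨1, by rw [pow_one, ← hz2, ← Subgroup.orderOf_coe, pow_orderOf_eq_one]⟩
        (by rw [Subgroup.orderOf_coe, hb]; exact Nat.coprime_two_right.2 (hr.odd_of_ne_two h2))
      have h1 := CIT.eq_one_of_commute hM (x := b) (hb.symm ▸ hr.odd_of_ne_two h2) hz2 (Subtype.ext hcomm)
      rw [h1, orderOf_one] at hb
      exact hr.ne_one hb.symm
    intro a ha
    rw [← S.3 hX hSX]
    exact (hmem a).2 ha
  have hS : ∀ s ∈ (S : Subgroup M), Commute g (s : G) := fun s hs => hcent z hz2 hgz s (hzc s hs)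
  by_cases hN : normalizer ((S : Subgroup M) : Set M) = (S : Subgroup M)
  · -- then `z` is isolated
    have hiso : Cfsg.IsIsolatedInvolution z := by
      refine ⟨hz2, fun a ha => ?_⟩
      set w := a * z * a⁻¹ with hw
      have hwo : orderOf w = 2 := by
        rw [show w = MulAut.conj a z from rfl, MulEquiv.orderOf_eq, hz2]
      have hgw : Commute g (w : G) := hcent z hz2 hgz w ha.symm
      have haS : ∀ s ∈ (S : Subgroup M), a * s * a⁻¹ ∈ (S : Subgroup M) := fun s hs => by
        refine hfix _ (hcent w hwo hgw _ ?_)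
        show a * s * a⁻¹ * w = w * (a * s * a⁻¹)
        calc a * s * a⁻¹ * w = a * (s * z) * a⁻¹ := by rw [hw]; group
          _ = w * (a * s * a⁻¹) := by rw [hzc s hs, hw]; group
      have hmap : (S : Subgroup M).map (MulAut.conj a).toMonoidHom = (S : Subgroup M) :=
        Subgroup.eq_of_le_of_card_ge (map_le_iff_le_comap.2 fun s hs => haS s hs)
          (by rw [card_map_of_injective (K := (S : Subgroup M)) (f := (MulAut.conj a).toMonoidHom)
            (MulEquiv.injective _)])
      have haN : a ∈ normalizer ((S : Subgroup M) : Set M) := mem_normalizer_iff.2 fun n =>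
        ⟨haS n, fun hn => by
          rw [← hmap] at hn
          exact (Subgroup.mem_map_iff_mem (MulEquiv.injective _)).1 hn⟩
      rw [hN] at haN
      rw [hw, hzc a haN]
      group
    have hO : Cfsg.oddCore M = ⊥ := by
      rcases (inferInstance : (Cfsg.oddCore M).Normal).eq_bot_or_eq_top with h | h
      · exact h
      · have := PCore.odd_card_oddCore (G := M)
        rw [h, Subgroup.card_top] at this
        exact absurd (CIT.two_dvd_card hne) (by
          intro hd; exact Nat.not_even_iff_odd.2 this (even_iff_two_dvd.2 hd))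
    have hc := ZStar.mem_center_of_oddCore_eq_bot (ZStar.inZStar hiso) hO
    rcases (inferInstance : (Subgroup.center M).Normal).eq_bot_or_eq_top with h | h
    · rw [h, Subgroup.mem_bot] at hc
      rw [hc, orderOf_one] at hz2; omega
    · obtain ⟨a, b, hab⟩ := hne
      exact hab ((Subgroup.mem_center_iff.1 (h ▸ Subgroup.mem_top b)) a)
  · -- an element of odd order normalising `S` is centralised by `g`
    obtain ⟨h, hhN, hho, hh1⟩ : ∃ h ∈ normalizer ((S : Subgroup M) : Set M), Odd (orderOf h) ∧ h ≠ 1 := by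
      by_contra hcon
      push Not at hcon
      apply hN
      refine S.3 (IsPGroup.iff_orderOf.2 fun a => ⟨_, Nat.eq_prime_pow_of_unique_prime_dvd
        (orderOf_pos a).ne' fun {r} hr hd => ?_⟩) le_normalizer
      by_contra h2
      haveI : Fact r.Prime := ⟨hr⟩
      rw [← Subgroup.orderOf_coe] at hd
      have hb := orderOf_pow_orderOf_div (orderOf_pos (a : M)).ne' hd
      have h1 := hcon _ (pow_mem a.2 (orderOf (a : M) / r)) (hb.symm ▸ hr.odd_of_ne_two h2)
      rw [h1, orderOf_one] at hb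
      exact hr.ne_one hb.symm
    set k : M := MulAut.conjNormal g h with hk
    have hkv : (k : G) = g * h * g⁻¹ := MulAut.conjNormal_apply g h
    set d := k * h⁻¹
    have hdz : Commute d z := by
      -- `k` and `h` act alike on `z`
      have hw : h⁻¹ * z * h ∈ (S : Subgroup M) := (mem_normalizer_iff''.1 hhN z).1 hzS
      have e := hS _ hw
      refine Subtype.ext (mul_inv_eq_iff_eq_mul.1 ?_)
      show ((k : G) * (h : G)⁻¹) * z * ((k : G) * (h : G)⁻¹)⁻¹ = z
      have e' : g * ((h : G)⁻¹ * z * h) * g⁻¹ = (h : G)⁻¹ * z * h := mul_inv_eq_iff_eq_mul.2 e.eq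
      have e'' : g⁻¹ * ((h : G)⁻¹ * z * h) * g = (h : G)⁻¹ * z * h := by
        conv_lhs => rw [← e']
        group
      rw [hkv]
      calc g * (h : G) * g⁻¹ * (h : G)⁻¹ * z * (g * (h : G) * g⁻¹ * (h : G)⁻¹)⁻¹
          = g * (h : G) * (g⁻¹ * ((h : G)⁻¹ * z * h) * g) * (h : G)⁻¹ * g⁻¹ := by group
        _ = g * ((h : G) * ((h : G)⁻¹ * z * h) * (h : G)⁻¹) * g⁻¹ := by rw [e'']; group
        _ = g * (z : G) * g⁻¹ := by group
        _ = z := mul_inv_eq_iff_eq_mul.2 hgz.eq
    have hgd : Commute g (d : G) := hcent z hz2 hgz d hdz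
    -- so `g` commutes with `h`
    have hgh : Commute g (h : G) := by
      have hstep : g * (h : G) * g⁻¹ = (d : G) * h := by simp [d, hkv]
      have hd' : g * (d : G) * g⁻¹ = d := mul_inv_eq_iff_eq_mul.2 hgd.eq
      have hpow : ∀ n : ℕ, g ^ n * (h : G) * (g ^ n)⁻¹ = (d : G) ^ n * h := fun n => by
        induction n with
        | zero => simp
        | succ n ih =>
          calc g ^ (n + 1) * (h : G) * (g ^ (n + 1))⁻¹ = g * (g ^ n * h * (g ^ n)⁻¹) * g⁻¹ := by
                rw [pow_succ']; group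
            _ = (g * (d : G) * g⁻¹) ^ n * (g * h * g⁻¹) := by rw [ih, conj_pow]; group
            _ = (d : G) ^ (n + 1) * h := by rw [hd', hstep, pow_succ, mul_assoc]
      have hdn := hpow (orderOf g)
      rw [pow_orderOf_eq_one, one_mul, inv_one, mul_one, right_eq_mul] at hdn
      obtain ⟨j, hj⟩ := S.2 ⟨d, hfix d hgd⟩
      have hj' : d ^ 2 ^ j = 1 := congrArg Subtype.val hj
      have hd1 : (d : G) = 1 := eq_one_of_odd_of_two_pow (k := j)
        (hgo.of_dvd_nat (orderOf_dvd_of_pow_eq_one hdn))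
        (by rw [← SubmonoidClass.coe_pow, hj', OneMemClass.coe_one])
      rw [hd1, one_mul] at hstep
      exact mul_inv_eq_iff_eq_mul.1 hstep
    obtain ⟨j, hj⟩ := S.2 ⟨h, hfix h hgh⟩
    exact hh1 (eq_one_of_odd_of_two_pow hho (congrArg Subtype.val hj : h ^ 2 ^ j = 1))

/-- With a socle having one class of involutions, a CN-group is CIT. -/
theorem isCIT_of_socle [Finite G] (hCN : IsCNGroup G) (M : Subgroup G) [M.Normal]
    [IsSimpleGroup M] (hne : ∃ a b : M, a * b ≠ b * a)
    (hconj : ∀ a b : M, orderOf a = 2 → orderOf b = 2 → IsConj a b) : IsCIT G := by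
  haveI : Fact (Nat.Prime 2) := ⟨Nat.prime_two⟩
  refine CITConsumer.isCIT_of_nonAdj fun p hp hp2 => ?_
  intro x hx
  set t := x ^ p
  set y := x ^ 2
  have ht : orderOf t = 2 := by
    rw [orderOf_pow' _ hp.ne_zero, hx, Nat.gcd_mul_left_left, Nat.mul_div_cancel _ hp.pos]
  have hy : orderOf y = p := by
    rw [orderOf_pow' _ two_ne_zero, hx, Nat.gcd_mul_right_left, Nat.mul_div_cancel_left _ two_pos]
  have ht1 : t ≠ 1 := fun e => by rw [e, orderOf_one] at ht; omega
  have hodd : Odd (orderOf y) := hy.symm ▸ hp.odd_of_ne_two hp2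
  -- an involution of the socle commuting with `t`
  obtain ⟨P, hP⟩ := (IsPGroup.of_card (n := 1) (by rw [Nat.card_zpowers, ht, pow_one]) :
    IsPGroup 2 (zpowers t)).exists_le_sylow
  have htP : t ∈ (P : Subgroup G) := hP (mem_zpowers t)
  obtain ⟨k, hk⟩ := hne |> fun h => CIT.two_dvd_card h
  have hMP : (M ⊓ (P : Subgroup G)).subgroupOf (P : Subgroup G) ≠ ⊥ := by
    intro e
    have h1 : M ⊓ (P : Subgroup G) = ⊥ := by
      rw [← le_bot_iff]
      intro a ha
      have ha' : (⟨a, ha.2⟩ : (P : Subgroup G)) ∈ (M ⊓ (P : Subgroup G)).subgroupOf (P : Subgroup G) := ha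
      rw [e, Subgroup.mem_bot] at ha'
      exact congrArg Subtype.val ha'
    obtain ⟨s, hs⟩ := exists_prime_orderOf_dvd_card' 2 (⟨k, hk⟩ : 2 ∣ Nat.card M)
    obtain ⟨Q, hQ⟩ := (IsPGroup.of_card (n := 1) (by
      rw [Nat.card_zpowers, Subgroup.orderOf_coe, hs, pow_one]) :
      IsPGroup 2 (zpowers (s : G))).exists_le_sylow
    obtain ⟨g, rfl⟩ := MulAction.exists_smul_eq G P Q
    have hsQ := hQ (mem_zpowers _)
    rw [Sylow.coe_subgroup_smul, Subgroup.mem_pointwise_smul_iff_inv_smul_mem] at hsQ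
    have hmem : g⁻¹ * (s : G) * g ∈ M ⊓ (P : Subgroup G) := by
      refine ⟨?_, ?_⟩
      · simpa using (inferInstance : M.Normal).conj_mem _ s.2 g⁻¹
      · simp at hsQ
        exact hsQ
    rw [h1, Subgroup.mem_bot] at hmem
    have : (s : G) = 1 := by
      calc (s : G) = g * (g⁻¹ * s * g) * g⁻¹ := by group
        _ = 1 := by rw [hmem]; group
    rw [OneMemClass.coe_eq_one] at this
    rw [this, orderOf_one] at hs; omega
  haveI : ((M ⊓ (P : Subgroup G)).subgroupOf (P : Subgroup G)).Normal := by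
    rw [Subgroup.inf_subgroupOf_right]; infer_instance
  obtain ⟨⟨⟨v, hvP⟩, hvM, hvc⟩, hv1⟩ := Subgroup.ne_bot_iff_exists_ne_one.1
    (Cfsg.Agent.PGroup.inf_center_ne_bot P.2 _ hMP)
  replace hvM : v ∈ M := hvM.1
  have hv1' : v ≠ 1 := fun e => hv1 (Subtype.ext (Subtype.ext e))
  have hvt : Commute v t :=
    (congrArg Subtype.val (Subgroup.mem_center_iff.1 hvc ⟨t, htP⟩)).symm
  obtain ⟨e, hve⟩ := isPGroup_two_orderOf P.2 hvP
  -- an involution in `⟨v⟩`
  have hd2 : 2 ∣ orderOf v := by
    obtain ⟨i, -, hi⟩ := (Nat.dvd_prime_pow Nat.prime_two).1 (orderOf_dvd_of_pow_eq_one hve)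
    rcases i with _ | i
    · exact absurd (orderOf_eq_one_iff.1 (hi.trans (pow_zero 2))) hv1'
    · exact hi ▸ dvd_pow_self 2 i.succ_ne_zero
  set w := v ^ (orderOf v / 2)
  have hw : orderOf w = 2 := orderOf_pow_orderOf_div (orderOf_pos v).ne' hd2
  have hyw : Commute y w := OddOrder.CN.commute_of_centralizer hCN ht1 (hvt.pow_left _).eq
    ((Commute.refl x).pow_pow 2 p).eq
    ⟨1, by rw [pow_one, ← hw, pow_orderOf_eq_one]⟩ (Nat.coprime_two_right.2 hodd)
  have h1 := eq_one_of_commute_socle hCN M hne hconj hodd (t := ⟨w, pow_mem hvM _⟩)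
    (by rw [Subgroup.orderOf_mk]; exact hw) hyw
  rw [h1, orderOf_one] at hy
  exact hp.ne_one hy.symm

end Cfsg.Agent.CNNonsolvable
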